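import Groth.Agent.Etrest.RDer4
import Mathlib.CategoryTheory.Abelian.Injective.Extend

/-!
# Degree zero homology of the unit `Q (G K) ⟶ TR G (Q K)` and of the unit of the derived adjunction

`G` left exact, `M` an object: `Q (G M[0]) ⟶ TR G (Q M[0])` is an isomorphism on `H^0`. For `adj : L ⊣ G`, `L` exact, and
`N ≅ G L N` the unit `N[0] ⟶ TR G (L N[0])` is an isomorphism on `H^0`.
-/

set_option autoImplicit false
universe w w' v v' u u'
open CategoryTheory CategoryTheory.Limits

noncomputable section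
namespace Groth.Agent.Lefpen.H709.HZero

open Groth.Agent.Etrest Groth.Agent.Etrest.RDer1 Groth.Agent.Etrest.RDer2 Groth.Agent.Etrest.RDer3
  Groth.Agent.Etrest.RDer4

section QIso

variable {C : Type u} [Category.{v} C] [Abelian C]

theorem comp_d_zero {K L : CochainComplex C ℤ} (φ : K ⟶ L) (hK1 : IsZero (K.X 1)) :
    φ.f 0 ≫ L.d 0 1 = 0 := by
  rw [φ.comm 0 1, hK1.eq_of_tgt (K.d 0 1) 0, zero_comp]

theorem quasiIsoAt_zero_iff {K L : CochainComplex C ℤ} (φ : K ⟶ L) (hK : IsZero (K.X (-1)))
    (hK1 : IsZero (K.X 1)) (hL : IsZero (L.X (-1))) :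
    QuasiIsoAt φ 0 ↔ (ShortComplex.mk (φ.f 0) (L.d 0 1) (comp_d_zero φ hK1)).Exact ∧ Mono (φ.f 0) := by
  rw [quasiIsoAt_iff' φ (-1) 0 1 (by simp) (by simp)]
  exact ShortComplex.quasiIso_iff_of_zeros _ (hK.eq_of_src _ _) (hK1.eq_of_tgt _ _) (hL.eq_of_src _ _)

variable {D : Type u'} [Category.{v'} D] [Abelian D] (G : C ⥤ D) [G.Additive] [PreservesFiniteLimits G]

theorem quasiIsoAt_zero_map {K L : CochainComplex C ℤ} (φ : K ⟶ L) (hK : IsZero (K.X (-1)))
    (hK1 : IsZero (K.X 1)) (hL : IsZero (L.X (-1))) (h : QuasiIsoAt φ 0) :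
    QuasiIsoAt ((G.mapHomologicalComplex (.up ℤ)).map φ) 0 := by
  obtain ⟨h1, h2⟩ := (quasiIsoAt_zero_iff φ hK hK1 hL).1 h
  refine (quasiIsoAt_zero_iff _ (G.map_isZero hK) (G.map_isZero hK1) (G.map_isZero hL)).2 ⟨?_, ?_⟩
  · have h3 : Mono (ShortComplex.mk (φ.f 0) (L.d 0 1) (comp_d_zero φ hK1)).f := h2
    exact h1.map_of_mono_of_preservesKernel G inferInstance inferInstance
  · exact inferInstanceAs (Mono (G.map (φ.f 0)))

end QIso

section Unit

variable {A : Type u} [Category.{v} A] [Abelian A] [HasDerivedCategory.{w} A]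
  {B : Type u'} [Category.{v'} B] [Abelian B] [HasDerivedCategory.{w'} B] [HasKInj B] [EnoughInjectives B]

theorem isZero_single_X {C : Type u} [Category.{v} C] [Abelian C] (M : C) (i : ℤ) (hi : i ≠ 0) :
    IsZero (((CochainComplex.singleFunctor C 0).obj M).X i) :=
  HomologicalComplex.isZero_single_obj_X (.up ℤ) 0 M i hi

/-- `Q (G M[0]) ⟶ TR G (Q M[0])` is an isomorphism on `H^0`. -/
theorem isIso_H0_unitQ_single (G : B ⥤ A) [G.Additive] [PreservesFiniteLimits G] (M : B) :
    IsIso ((DerivedCategory.homologyFunctor A 0).map ((unitQ G).app ((CochainComplex.singleFunctor B 0).obj M))) := by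
  let R := injectiveResolution M
  let φ : (CochainComplex.singleFunctor B 0).obj M ⟶ R.cochainComplex := R.ι'
  have hK : CochainComplex.IsKInjective R.cochainComplex :=
    CochainComplex.isKInjective_of_injective _ 0
  have h1 := (unitQ G).naturality φ
  have h2 : IsIso ((unitQ G).app R.cochainComplex) := isIso_unitQ_of_isKInjective G _ hK
  have h3 : IsIso (DerivedCategory.Q.map φ) := inferInstance
  have h4 : IsIso ((TR G).map (DerivedCategory.Q.map φ)) := inferInstance
  have h5 : QuasiIsoAt ((G.mapHomologicalComplex (.up ℤ)).map φ) 0 :=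
    quasiIsoAt_zero_map G φ (isZero_single_X M (-1) (by norm_num)) (isZero_single_X M 1 (by norm_num))
      (CochainComplex.isZero_of_isStrictlyGE R.cochainComplex 0 (-1) (by norm_num)) inferInstance
  have h6 : IsIso ((DerivedCategory.homologyFunctor A 0).map (DerivedCategory.Q.map
      ((G.mapHomologicalComplex (.up ℤ)).map φ))) := by
    refine (NatIso.isIso_map_iff (DerivedCategory.homologyFunctorFactors A 0)
      ((G.mapHomologicalComplex (.up ℤ)).map φ)).2 ?_
    exact (quasiIsoAt_iff_isIso_homologyMap _ _).1 h5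
  have h7 : IsIso ((DerivedCategory.homologyFunctor A 0).map ((unitQ G).app ((CochainComplex.singleFunctor B 0).obj M) ≫
      (TR G).map (DerivedCategory.Q.map φ))) := by
    have h8 : (unitQ G).app ((CochainComplex.singleFunctor B 0).obj M) ≫ (TR G).map (DerivedCategory.Q.map φ) =
        DerivedCategory.Q.map ((G.mapHomologicalComplex (.up ℤ)).map φ) ≫ (unitQ G).app R.cochainComplex := h1.symm
    rw [h8, Functor.map_comp]
    infer_instance
  rw [Functor.map_comp] at h7
  exact IsIso.of_isIso_comp_right _ ((DerivedCategory.homologyFunctor A 0).map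
    ((TR G).map (DerivedCategory.Q.map φ)))

variable {L : A ⥤ B} {G : B ⥤ A} [L.Additive] [G.Additive] [PreservesFiniteLimits L] [PreservesFiniteColimits L]
  [PreservesFiniteLimits G] (adj : L ⊣ G)

/-- The unit of the derived adjunction on `N[0]` is an isomorphism on `H^0` if `N ≅ G L N`. -/
theorem isIso_H0_dAdj_unit (N : A) (h : IsIso (adj.unit.app N)) :
    IsIso ((DerivedCategory.homologyFunctor A 0).map
      ((dAdj adj).unit.app ((DerivedCategory.singleFunctor A 0).obj N))) := by
  let K : CochainComplex A ℤ := (CochainComplex.singleFunctor A 0).obj N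
  have e1 := dAdj_unit adj K
  have e3 : ∀ i, IsIso (((Dcoh.DerAdj.adjCx adj (.up ℤ)).unit.app K).f i) := by
    intro i
    have : IsIso (adj.unit.app (K.X i)) := by
      by_cases hi : i = 0
      · subst hi
        exact (NatTrans.isIso_app_iff_of_iso adj.unit
          (HomologicalComplex.singleObjXSelf (ComplexShape.up ℤ) 0 N)).2 h
      · exact isIso_of_source_target_iso_zero _ (isZero_single_X N i hi).isoZero
          (IsZero.isoZero ((L ⋙ G).map_isZero (isZero_single_X N i hi)))
    exact this
  have e4 : IsIso ((Dcoh.DerAdj.adjCx adj (.up ℤ)).unit.app K) :=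
    HomologicalComplex.Hom.isIso_of_components _
  let σ : (L.mapHomologicalComplex (.up ℤ)).obj K ≅ (CochainComplex.singleFunctor B 0).obj (L.obj N) :=
    (HomologicalComplex.singleMapHomologicalComplex L (.up ℤ) 0).app N
  have e5 : IsIso ((DerivedCategory.homologyFunctor A 0).map ((unitQ G).app ((L.mapHomologicalComplex (.up ℤ)).obj K))) := by
    have e6 := isIso_H0_unitQ_single (A := A) G (L.obj N)
    exact (NatTrans.isIso_app_iff_of_iso
      (Functor.whiskerRight (unitQ G) (DerivedCategory.homologyFunctor A 0)) σ).2 e6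
  have e7 : IsIso ((DerivedCategory.homologyFunctor A 0).map ((dAdj adj).unit.app (DerivedCategory.Q.obj K) ≫
      (TR G).map (L.mapDerivedCategoryFactors.hom.app K))) := by
    rw [e1, Functor.map_comp]
    exact IsIso.comp_isIso' inferInstance e5
  rw [Functor.map_comp] at e7
  have e8 : IsIso ((TR G).map (L.mapDerivedCategoryFactors.hom.app K)) := inferInstance
  have e9 : IsIso ((DerivedCategory.homologyFunctor A 0).map ((TR G).map (L.mapDerivedCategoryFactors.hom.app K))) :=
    ((DerivedCategory.homologyFunctor A 0).mapIso (@asIso _ _ _ _ _ e8)).isIso_hom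
  exact @IsIso.of_isIso_comp_right _ _ _ _ _ _ _ e9 e7

end Unit

end Groth.Agent.Lefpen.H709.HZero
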