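import Groth.Agent.Lefpen.H709.DCore
import Groth.Agent.Lefpen.H709.HZero

/-!
# The Gysin triangle

`exists_triangle`: if `η : F ⟶ T` (`F` in degree zero) is an isomorphism on `H^0`, `H^1(T) ≅ D'` and `T` has no other
homology, there is a distinguished triangle `D'[-2] ⟶ F ⟶ T ⟶`.
`exists_map_triangle`: its image under a triangulated functor.
-/

set_option autoImplicit false
universe w w' v v' u u'
open CategoryTheory CategoryTheory.Limits Pretriangulated

namespace Groth.Agent.Lefpen.H709.Cone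

open DerivedCategory DSum DCore

section Replace

variable {D : Type*} [Category* D] [HasZeroObject D] [HasShift D ℤ] [Preadditive D]
  [∀ n : ℤ, (shiftFunctor D n).Additive] [Pretriangulated D]

theorem replace₁ (T : Triangle D) (hT : T ∈ distTriang D) {Y : D} (e : T.obj₁ ≅ Y) :
    Triangle.mk (e.inv ≫ T.mor₁) T.mor₂ (T.mor₃ ≫ (e.hom)⟦(1 : ℤ)⟧') ∈ distTriang D := by
  refine isomorphic_distinguished _ hT _ (Triangle.isoMk _ _ e.symm (Iso.refl _) (Iso.refl _) ?_ ?_ ?_)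
  · exact Category.comp_id _
  · exact (Category.comp_id _).trans (Category.id_comp _).symm
  · have h1 : (e.hom)⟦(1 : ℤ)⟧' ≫ (e.inv)⟦(1 : ℤ)⟧' = 𝟙 _ := by
      rw [← Functor.map_comp, e.hom_inv_id, CategoryTheory.Functor.map_id]
    exact (Category.assoc _ _ _).trans ((congrArg (T.mor₃ ≫ ·) h1).trans
      ((Category.comp_id _).trans (Category.id_comp _).symm))

end Replace

section Tri

variable {C : Type u} [Category.{v} C] [Abelian C] [HasDerivedCategory.{w} C]

theorem nonempty_iso_single (K : DerivedCategory C) (n : ℤ) (D : C)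
    (h : ∀ p : ℤ, p ≠ n → IsZero ((homologyFunctor C p).obj K))
    (h1 : Nonempty ((homologyFunctor C n).obj K ≅ D)) : Nonempty (K ≅ (singleFunctor C n).obj D) := by
  have hGE : K.IsGE n := by
    rw [isGE_iff]
    exact fun i hi => h i hi.ne
  have hLE : K.IsLE n := by
    rw [isLE_iff]
    exact fun i hi => h i hi.ne'
  obtain ⟨Y, ⟨e⟩⟩ := exists_iso_singleFunctor_obj_of_isGE_of_isLE K n
  obtain ⟨e1⟩ := h1
  have e2 : Y ≅ D := ((singleFunctorCompHomologyFunctorIso C n).app Y).symm ≪≫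
    (homologyFunctor C n).mapIso e.symm ≪≫ e1
  exact ⟨e ≪≫ (singleFunctor C n).mapIso e2⟩

theorem exists_triangle (F D' : C) (T : DerivedCategory C) (η : (singleFunctor C 0).obj F ⟶ T)
    (h0 : IsIso ((homologyFunctor C 0).map η)) (h1 : Nonempty ((homologyFunctor C 1).obj T ≅ D'))
    (hn : ∀ p : ℤ, p < 0 → IsZero ((homologyFunctor C p).obj T))
    (hp : ∀ p : ℤ, 2 ≤ p → IsZero ((homologyFunctor C p).obj T)) :
    ∃ (cl : ((singleFunctor C 0).obj D')⟦(-2 : ℤ)⟧ ⟶ (singleFunctor C 0).obj F)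
      (δ : T ⟶ ((singleFunctor C 0).obj D')⟦(-2 : ℤ)⟧⟦(1 : ℤ)⟧), Triangle.mk cl η δ ∈ distTriang _ := by
  obtain ⟨Cn, g, δ, hT⟩ := distinguished_cocone_triangle η
  have z1 : ∀ p : ℤ, p ≠ 0 → IsZero ((homologyFunctor C p).obj (Triangle.mk η g δ).obj₁) :=
    fun p hp => isZero_homology_single _ _ _ hp
  have hC : ∀ p : ℤ, p ≠ 1 → IsZero ((homologyFunctor C p).obj Cn) := by
    intro p hp1
    by_cases hp0 : p = 0
    · subst hp0
      exact isZero_obj₃ hT z1 h0
    · have h3 := isIso_mor₂ hT z1 h0 p hp0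
      have h4 : IsZero ((homologyFunctor C p).obj T) := by
        rcases lt_or_ge p 0 with h | h
        · exact hn p h
        · exact hp p (by omega)
      exact h4.of_iso (asIso ((homologyFunctor C p).map (Triangle.mk η g δ).mor₂)).symm
  have hC1 : Nonempty ((homologyFunctor C 1).obj Cn ≅ D') := by
    have h3 := isIso_mor₂ hT z1 h0 1 (by norm_num)
    obtain ⟨e⟩ := h1
    exact ⟨(asIso ((homologyFunctor C 1).map (Triangle.mk η g δ).mor₂)).symm ≪≫ e⟩
  obtain ⟨e⟩ := nonempty_iso_single Cn 1 D' hC hC1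
  let e' : Cn⟦(-1 : ℤ)⟧ ≅ ((singleFunctor C 0).obj D')⟦(-2 : ℤ)⟧ :=
    (shiftFunctor _ (-1 : ℤ)).mapIso e ≪≫ ((singleFunctors C).shiftIso (-1) 2 1 (by norm_num)).app D' ≪≫
      (((singleFunctors C).shiftIso (-2) 2 0 (by norm_num)).app D').symm
  exact ⟨_, _, replace₁ _ (inv_rot_of_distTriang _ hT) e'⟩

end Tri

section Map

variable {C : Type u} [Category.{v} C] [Abelian C] [HasDerivedCategory.{w} C]
  {D : Type u'} [Category.{v'} D] [Abelian D] [HasDerivedCategory.{w'} D]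
  (R : DerivedCategory C ⥤ DerivedCategory D) [R.CommShift ℤ] [R.IsTriangulated]

theorem exists_map_triangle {X F T : DerivedCategory C} (cl : X⟦(-2 : ℤ)⟧ ⟶ F) (η : F ⟶ T)
    (δ : T ⟶ X⟦(-2 : ℤ)⟧⟦(1 : ℤ)⟧) (hT : Triangle.mk cl η δ ∈ distTriang _) :
    ∃ (δ' : R.obj T ⟶ (R.obj X)⟦(-2 : ℤ)⟧⟦(1 : ℤ)⟧),
      Triangle.mk ((R.commShiftIso (-2 : ℤ)).inv.app X ≫ R.map cl) (R.map η) δ' ∈ distTriang _ := by
  have h := R.map_distinguished _ hT
  exact ⟨_, replace₁ _ h ((R.commShiftIso (-2 : ℤ)).app X)⟩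

end Map

end Groth.Agent.Lefpen.H709.Cone
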