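import Groth.Agent.Lefpen.H709.DSum
import Mathlib.Tactic.Ring
import Mathlib.Tactic.Linarith

/-!
# The splitting produced by a Gysin-type triangle

`K, K'` objects of a derived category, `τ : K[-2] ⟶ K'`, `ρ : K' ⟶ K`, `s : D ⟶ K`, `a : A ⟶ K'`
(`A`, `D` in degree zero), isomorphisms on `H^0`; `ρ` an isomorphism in positive degrees; the cone of `τ` has homology
only in degrees `0` and `2c+1`. Then `K' = A ⊕ ⊕_{j=1}^{c} D[-2j]` (`bijective`).
-/

set_option autoImplicit false
universe w v u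
open CategoryTheory CategoryTheory.Limits Pretriangulated

namespace Groth.Agent.Lefpen.H709.DCore

open DerivedCategory DSum

variable {C : Type u} [Category.{v} C] [Abelian C] [HasDerivedCategory.{w} C]

theorem isIso_homology_shift {X Y : DerivedCategory C} (f : X ⟶ Y) (n a a' : ℤ) (h : n + a = a')
    (hf : IsIso ((homologyFunctor C a').map f)) : IsIso ((homologyFunctor C a).map (f⟦n⟧')) := by
  have h1 : IsIso (((homologyFunctor C 0).shift a').map f) := hf
  exact (NatIso.isIso_map_iff ((homologyFunctor C 0).shiftIso n a a' h) f).2 h1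

theorem isZero_homology_shift (X : DerivedCategory C) (n a a' : ℤ) (h : n + a = a')
    (hf : IsZero ((homologyFunctor C a').obj X)) : IsZero ((homologyFunctor C a).obj (X⟦n⟧)) :=
  hf.of_iso (((homologyFunctor C 0).shiftIso n a a' h).app X)

variable {K K' W : DerivedCategory C} {A D : C}
  (s : (singleFunctor C 0).obj D ⟶ K) (a : (singleFunctor C 0).obj A ⟶ K')
  (τ : K⟦(-2 : ℤ)⟧ ⟶ K') (ρ : K' ⟶ K) (g : K' ⟶ W) (δ : W ⟶ K⟦(-2 : ℤ)⟧⟦(1 : ℤ)⟧)

/-- `D[-2j-2] ⟶ K[-2]` from `D[-2j] ⟶ K`. -/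
noncomputable def up (j : ℕ) (σ : (singleFunctor C (2 * (j : ℤ))).obj D ⟶ K) :
    (singleFunctor C (2 * ((j + 1 : ℕ) : ℤ))).obj D ⟶ K⟦(-2 : ℤ)⟧ :=
  ((singleFunctors C).shiftIso (-2) (2 * ((j + 1 : ℕ) : ℤ)) (2 * (j : ℤ)) (by push_cast; ring)).inv.app D ≫
    σ⟦(-2 : ℤ)⟧'

theorem isIso_up (j : ℕ) (σ : (singleFunctor C (2 * (j : ℤ))).obj D ⟶ K)
    (h : IsIso ((homologyFunctor C (2 * (j : ℤ))).map σ)) :
    IsIso ((homologyFunctor C (2 * ((j + 1 : ℕ) : ℤ))).map (up j σ)) := by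
  have h1 := isIso_homology_shift σ (-2) (2 * ((j + 1 : ℕ) : ℤ)) (2 * (j : ℤ)) (by push_cast; ring) h
  unfold up
  rw [Functor.map_comp]
  infer_instance

/-- `D[-2j] ⟶ K` -/
noncomputable def sig : ∀ j : ℕ, (singleFunctor C (2 * (j : ℤ))).obj D ⟶ K
  | 0 => s
  | j + 1 => up j (sig j) ≫ τ ≫ ρ

/-- `D[-2j-2] ⟶ K'` -/
noncomputable def phi (j : ℕ) : (singleFunctor C (2 * ((j + 1 : ℕ) : ℤ))).obj D ⟶ K' :=
  up j (sig s τ ρ j) ≫ τ

variable (hT : Triangle.mk τ g δ ∈ distTriang _) (c : ℕ)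
  (hs : IsIso ((homologyFunctor C 0).map s)) (ha : IsIso ((homologyFunctor C 0).map a))
  (hρ : ∀ p : ℤ, 1 ≤ p → IsIso ((homologyFunctor C p).map ρ))
  (hW : ∀ p : ℤ, p ≠ 0 → p ≠ 2 * c + 1 → IsZero ((homologyFunctor C p).obj W))
  (hK : ∀ p : ℤ, p < 0 → IsZero ((homologyFunctor C p).obj K))
  (hK' : ∀ p : ℤ, p < 0 → IsZero ((homologyFunctor C p).obj K'))
  (hb : ∃ N : ℤ, ∀ p : ℤ, N < p → IsZero ((homologyFunctor C p).obj K'))

include hT hW in
/-- `τ` is an isomorphism on `H^p` away from the degrees of the cone. -/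
theorem isIso_tau (p : ℤ) (h1 : p ≠ 0) (h2 : p ≠ 2 * c + 1) (h3 : p ≠ 1) (h4 : p ≠ 2 * c + 2) :
    IsIso ((homologyFunctor C p).map τ) := by
  have z1 : IsZero ((homologyFunctor C p).obj (Triangle.mk τ g δ).obj₃) := hW p h1 h2
  have z2 : IsZero ((homologyFunctor C (p - 1)).obj (Triangle.mk τ g δ).obj₃) :=
    hW (p - 1) (by omega) (by omega)
  have m : Mono ((homologyFunctor C p).map (Triangle.mk τ g δ).mor₁) := by
    rw [HomologySequence.mono_homologyMap_mor₁_iff _ hT (p - 1) p (by ring)]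
    exact z2.eq_of_src _ _
  have e : Epi ((homologyFunctor C p).map (Triangle.mk τ g δ).mor₁) := by
    rw [HomologySequence.epi_homologyMap_mor₁_iff _ hT p]
    exact z1.eq_of_tgt _ _
  exact isIso_of_mono_of_epi ((homologyFunctor C p).map (Triangle.mk τ g δ).mor₁)

include hT hW hK in
/-- `H^1(K') = 0` if `c ≥ 1`. -/
theorem isZero_one (hc : 1 ≤ c) : IsZero ((homologyFunctor C 1).obj K') := by
  have z1 : IsZero ((homologyFunctor C 1).obj (Triangle.mk τ g δ).obj₁) :=
    isZero_homology_shift K (-2) 1 (-1) (by norm_num) (hK (-1) (by norm_num))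
  have z2 : IsZero ((homologyFunctor C 1).obj (Triangle.mk τ g δ).obj₃) := hW 1 (by norm_num) (by omega)
  exact (HomologySequence.exact₂ _ hT 1).isZero_of_both_zeros (z1.eq_of_src _ _) (z2.eq_of_tgt _ _)

include hT hW in
/-- `H^{p+2}(K') = 0` if `H^p(K) = 0`, away from the degrees of the cone. -/
theorem isZero_up (p : ℤ) (h1 : p + 2 ≠ 0) (h2 : p + 2 ≠ 2 * c + 1)
    (h : IsZero ((homologyFunctor C p).obj K)) : IsZero ((homologyFunctor C (p + 2)).obj K') := by
  have z1 : IsZero ((homologyFunctor C (p + 2)).obj (Triangle.mk τ g δ).obj₁) :=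
    isZero_homology_shift K (-2) (p + 2) p (by ring) h
  have z2 : IsZero ((homologyFunctor C (p + 2)).obj (Triangle.mk τ g δ).obj₃) := hW _ h1 h2
  exact (HomologySequence.exact₂ _ hT (p + 2)).isZero_of_both_zeros (z1.eq_of_src _ _) (z2.eq_of_tgt _ _)

include hT hW in
/-- `H^p(K) = 0` if `H^{p+2}(K') = 0`, away from the degrees of the cone. -/
theorem isZero_down (p : ℤ) (h1 : p + 1 ≠ 0) (h2 : p + 1 ≠ 2 * c + 1)
    (h : IsZero ((homologyFunctor C (p + 2)).obj K')) : IsZero ((homologyFunctor C p).obj K) := by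
  have z1 : IsZero ((homologyFunctor C (p + 2)).obj (Triangle.mk τ g δ).obj₂) := h
  have z2 : IsZero ((homologyFunctor C (p + 1)).obj (Triangle.mk τ g δ).obj₃) := hW _ h1 h2
  have z3 : IsZero ((homologyFunctor C (p + 2)).obj (K⟦(-2 : ℤ)⟧)) :=
    (HomologySequence.exact₁ _ hT (p + 1) (p + 2) (by ring)).isZero_of_both_zeros
      (z2.eq_of_src _ _) (z1.eq_of_tgt _ _)
  exact z3.of_iso (((homologyFunctor C 0).shiftIso (-2) (p + 2) p (by ring)).app K).symm

include hρ in
theorem isZero_K_iff (p : ℤ) (hp : 1 ≤ p) : IsZero ((homologyFunctor C p).obj K) ↔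
    IsZero ((homologyFunctor C p).obj K') := by
  have h1 := hρ p hp
  exact ⟨fun h => h.of_iso (asIso ((homologyFunctor C p).map ρ)),
    fun h => h.of_iso (asIso ((homologyFunctor C p).map ρ)).symm⟩

include hT hW hρ hb in
/-- Vanishing above `2c`. -/
theorem isZero_large (p : ℤ) (hp : 2 * c + 1 ≤ p) : IsZero ((homologyFunctor C p).obj K') := by
  obtain ⟨N, hN⟩ := hb
  have key : ∀ (m : ℕ) (p : ℤ), 2 * c + 1 ≤ p → N < p + 2 * m → IsZero ((homologyFunctor C p).obj K') := by
    intro m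
    induction m with
    | zero => exact fun p _ h => hN p (by simpa using h)
    | succ m ih =>
      intro p hp h
      rw [← isZero_K_iff ρ hρ p (by omega)]
      exact isZero_down τ g δ hT c hW p (by omega) (by omega) (ih (p + 2) (by omega) (by push_cast at h; linarith))
  exact key (N - p + 1).toNat p hp (by omega)

include hT hW hρ hK in
/-- Vanishing in odd degrees. -/
theorem isZero_odd (hc : 1 ≤ c) (i : ℕ) (hi : i < c) : IsZero ((homologyFunctor C (2 * (i : ℤ) + 1)).obj K') := by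
  induction i with
  | zero =>
    have h := isZero_one τ g δ hT c hW hK hc
    simpa using h
  | succ i ih =>
    have h1 := ih (by omega)
    rw [← isZero_K_iff ρ hρ _ (by omega)] at h1
    have h2 := isZero_up τ g δ hT c hW (2 * (i : ℤ) + 1) (by omega) (by omega) h1
    have e : (2 * ((i + 1 : ℕ) : ℤ) + 1) = 2 * (i : ℤ) + 1 + 2 := by push_cast; ring
    rw [e]
    exact h2

include hT hW hρ hs in
theorem isIso_sig (j : ℕ) (hj : j ≤ c) (hj' : j < c ∨ j = 0) :
    IsIso ((homologyFunctor C (2 * (j : ℤ))).map (sig s τ ρ j)) := by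
  induction j with
  | zero => exact hs
  | succ j ih =>
    have h1 := isIso_up j _ (ih (by omega) (by omega))
    have h2 := isIso_tau τ g δ hT c hW (2 * ((j + 1 : ℕ) : ℤ)) (by omega) (by omega) (by omega) (by omega)
    have h3 := hρ (2 * ((j + 1 : ℕ) : ℤ)) (by omega)
    change IsIso ((homologyFunctor C (2 * ((j + 1 : ℕ) : ℤ))).map (up j (sig s τ ρ j) ≫ τ ≫ ρ))
    rw [Functor.map_comp, Functor.map_comp]
    infer_instance

include hT hW hρ hs in
theorem isIso_phi (j : ℕ) (hj : j < c) :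
    IsIso ((homologyFunctor C (2 * ((j + 1 : ℕ) : ℤ))).map (phi s τ ρ j)) := by
  have h1 := isIso_up j _ (isIso_sig s τ ρ g δ hT c hs hρ hW j (by omega) (by omega))
  have h2 := isIso_tau τ g δ hT c hW (2 * ((j + 1 : ℕ) : ℤ)) (by omega) (by omega) (by omega) (by omega)
  unfold phi
  rw [Functor.map_comp]
  infer_instance

/-- The degrees. -/
def deg (c : ℕ) : Fin (c + 1) → ℤ := fun j => 2 * ((j : ℕ) : ℤ)

/-- The objects. -/
def fam (A D : C) (c : ℕ) : Fin (c + 1) → C := Fin.cases A (fun _ => D)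

/-- The maps. -/
noncomputable def maps : ∀ j : Fin (c + 1), (singleFunctor C (deg c j)).obj (fam A D c j) ⟶ K' :=
  fun j => Fin.cases (motive := fun j => (singleFunctor C (deg c j)).obj (fam A D c j) ⟶ K') a
    (fun j => phi s τ ρ j.1) j

include hT hW hρ hK hK' hb hs ha in
/-- The splitting. -/
theorem bijective (N : DerivedCategory C) :
    Function.Bijective (fun f : (N ⟶ (singleFunctor C 0).obj A) ×
        (∀ j : Fin c, N ⟶ (singleFunctor C (2 * ((j.1 + 1 : ℕ) : ℤ))).obj D) =>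
      f.1 ≫ a + ∑ j, f.2 j ≫ phi s τ ρ j.1) := by
  have h := bijective_sum (c + 1) (deg c) (fun i j hij => by
      unfold deg at hij
      ext
      omega) (fam A D c) K' (maps s a τ ρ c) (fun j => by
        refine Fin.cases ha (fun j => ?_) j
        exact isIso_phi s τ ρ g δ hT c hs hρ hW j.1 j.2) (fun p hp => by
        by_cases h1 : p < 0
        · exact hK' p h1
        by_cases h2 : 2 * (c : ℤ) + 1 ≤ p
        · exact isZero_large τ ρ g δ hT c hρ hW hb p h2
        have h3 : ¬ Even p := by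
          rintro ⟨r, hr⟩
          refine hp ⟨r.toNat, by omega⟩ ?_
          unfold deg
          dsimp only
          omega
        rw [Int.not_even_iff_odd] at h3
        obtain ⟨r, hr⟩ := h3
        have h4 : p = 2 * ((r.toNat : ℕ) : ℤ) + 1 := by omega
        rw [h4]
        exact isZero_odd τ ρ g δ hT c hρ hW hK (by omega) r.toNat (by omega)) N
  have e : (fun f : (N ⟶ (singleFunctor C 0).obj A) ×
        (∀ j : Fin c, N ⟶ (singleFunctor C (2 * ((j.1 + 1 : ℕ) : ℤ))).obj D) =>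
      f.1 ≫ a + ∑ j, f.2 j ≫ phi s τ ρ j.1) =
      (fun f : (∀ j, N ⟶ (singleFunctor C (deg c j)).obj (fam A D c j)) => ∑ j, f j ≫ maps s a τ ρ c j) ∘
      (fun f : (N ⟶ (singleFunctor C 0).obj A) ×
        (∀ j : Fin c, N ⟶ (singleFunctor C (2 * ((j.1 + 1 : ℕ) : ℤ))).obj D) =>
        fun j => Fin.cases (motive := fun j => N ⟶ (singleFunctor C (deg c j)).obj (fam A D c j)) f.1 f.2 j) := by
    funext f
    exact (Fin.sum_univ_succ (fun j : Fin (c + 1) => (Fin.cases (motive := fun j => N ⟶ (singleFunctor C (deg c j)).obj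
      (fam A D c j)) f.1 f.2 j : N ⟶ (singleFunctor C (deg c j)).obj (fam A D c j)) ≫ maps s a τ ρ c j)).symm
  rw [e]
  refine h.comp ⟨fun f f' hff => ?_, fun f => ⟨⟨f 0, fun j => f j.succ⟩, ?_⟩⟩
  · refine Prod.ext (congrFun hff 0) (funext fun j => congrFun hff j.succ)
  · funext j
    refine Fin.cases rfl (fun j => rfl) j

end Groth.Agent.Lefpen.H709.DCore
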