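import Mathlib.Algebra.Homology.DerivedCategory.TStructure
import Mathlib.Algebra.BigOperators.Fin

/-!
# Splitting of an object of the derived category as a sum of its shifted homology objects

`bijective_sum`: if `φ j : (M j)[-d j] ⟶ K` (`j : Fin n`, the degrees `d j` pairwise distinct) is an isomorphism on
`H^{d j}` for every `j`, and `K` has no other homology, then `Hom(N, K) = ∏ Hom(N, (M j)[-d j])` for every `N`.
-/

set_option autoImplicit false
universe w v u
open CategoryTheory CategoryTheory.Limits Pretriangulated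

namespace Groth.Agent.Lefpen.H709.DSum

open DerivedCategory ZeroObject

variable {C : Type u} [Category.{v} C] [Abelian C] [HasDerivedCategory.{w} C]

theorem isZero_homology_single (M : C) (d p : ℤ) (h : p ≠ d) :
    IsZero ((homologyFunctor C p).obj ((singleFunctor C d).obj M)) := by
  rcases lt_or_gt_of_ne h with h | h
  · exact isZero_of_isGE _ d p h
  · exact isZero_of_isLE _ d p h

theorem isZero_of_homology (K : DerivedCategory C) (h : ∀ p : ℤ, IsZero ((homologyFunctor C p).obj K)) :
    IsZero K := by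
  have h1 : IsIso (0 : K ⟶ 0) := by
    rw [isIso_iff]
    intro n
    have h2 : IsZero ((homologyFunctor C n).obj (0 : DerivedCategory C)) :=
      Functor.map_isZero _ (isZero_zero _)
    exact ⟨0, (h n).eq_of_src _ _, h2.eq_of_src _ _⟩
  exact (isZero_zero _).of_iso (asIso (0 : K ⟶ 0))

section Cone

variable {M : C} {d : ℤ} {T : Triangle (DerivedCategory C)} (hT : T ∈ distTriang _)
  (h₁ : ∀ p : ℤ, p ≠ d → IsZero ((homologyFunctor C p).obj T.obj₁))
  (hi : IsIso ((homologyFunctor C d).map T.mor₁))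

include h₁ hi in
theorem mono_mor₁ (p : ℤ) : Mono ((homologyFunctor C p).map T.mor₁) := by
  by_cases hp : p = d
  · subst hp; infer_instance
  · exact ⟨fun _ _ _ => (h₁ p hp).eq_of_tgt _ _⟩

include hT h₁ hi in
theorem epi_mor₂ (p : ℤ) : Epi ((homologyFunctor C p).map T.mor₂) := by
  rw [HomologySequence.epi_homologyMap_mor₂_iff T hT p (p + 1)]
  rw [← HomologySequence.mono_homologyMap_mor₁_iff T hT p (p + 1)]
  exact mono_mor₁ h₁ hi _

include hT h₁ hi in
theorem isIso_mor₂ (p : ℤ) (hp : p ≠ d) : IsIso ((homologyFunctor C p).map T.mor₂) := by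
  have h2 := epi_mor₂ hT h₁ hi p
  have h3 : Mono ((homologyFunctor C p).map T.mor₂) := by
    rw [HomologySequence.mono_homologyMap_mor₂_iff T hT p]
    exact (h₁ p hp).eq_of_src _ _
  exact isIso_of_mono_of_epi _

include hT h₁ hi in
theorem isZero_obj₃ : IsZero ((homologyFunctor C d).obj T.obj₃) := by
  have h2 := epi_mor₂ hT h₁ hi d
  have h3 : (homologyFunctor C d).map T.mor₂ = 0 := by
    rw [← HomologySequence.epi_homologyMap_mor₁_iff T hT d]
    infer_instance
  rw [IsZero.iff_id_eq_zero, ← cancel_epi ((homologyFunctor C d).map T.mor₂), h3]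
  simp

end Cone

theorem bijective_sum (n : ℕ) (d : Fin n → ℤ) (hd : Function.Injective d) (M : Fin n → C)
    (K : DerivedCategory C) (φ : ∀ j, (singleFunctor C (d j)).obj (M j) ⟶ K)
    (h1 : ∀ j, IsIso ((homologyFunctor C (d j)).map (φ j)))
    (h2 : ∀ p, (∀ j, p ≠ d j) → IsZero ((homologyFunctor C p).obj K)) (N : DerivedCategory C) :
    Function.Bijective (fun f : (∀ j, N ⟶ (singleFunctor C (d j)).obj (M j)) => ∑ j, f j ≫ φ j) := by
  induction n generalizing K N with
  | zero =>
    have hK : IsZero K := isZero_of_homology K (fun p => h2 p (fun j => j.elim0))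
    refine ⟨fun f g _ => funext fun j => j.elim0, fun g => ⟨fun j => j.elim0, hK.eq_of_tgt _ _⟩⟩
  | succ n ih =>
    obtain ⟨C0, ψ, δ, hT⟩ := distinguished_cocone_triangle (φ 0)
    have z1 : ∀ p : ℤ, p ≠ d 0 → IsZero ((homologyFunctor C p).obj (Triangle.mk (φ 0) ψ δ).obj₁) :=
      fun p hp => isZero_homology_single _ _ _ hp
    have z2 : IsIso ((homologyFunctor C (d 0)).map (Triangle.mk (φ 0) ψ δ).mor₁) := h1 0
    have hz : ∀ p : ℤ, (∀ j : Fin n, p ≠ d j.succ) → IsZero ((homologyFunctor C p).obj C0) := by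
      intro p hp
      by_cases h : p = d 0
      · subst h
        exact isZero_obj₃ hT z1 z2
      · have h3 := isIso_mor₂ hT z1 z2 p h
        have h4 : IsZero ((homologyFunctor C p).obj K) := h2 p (fun j => by
          refine Fin.cases h (fun j => hp j) j)
        exact h4.of_iso (asIso ((homologyFunctor C p).map (Triangle.mk (φ 0) ψ δ).mor₂)).symm
    have hI := ih (fun j => d j.succ) (fun a b hab => Fin.succ_injective _ (hd hab)) (fun j => M j.succ) C0
      (fun j => φ j.succ ≫ ψ) (fun j => by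
        have h3 := isIso_mor₂ hT z1 z2 (d j.succ) (fun h => by
          have := hd h
          exact Fin.succ_ne_zero j this)
        have h4 := h1 j.succ
        rw [Functor.map_comp]
        exact @IsIso.comp_isIso _ _ _ _ _ _ _ h4 h3) hz
    have hsum : ∀ (N : DerivedCategory C) (f : ∀ j, N ⟶ (singleFunctor C (d j)).obj (M j)),
        (∑ j, f j ≫ φ j) = f 0 ≫ φ 0 + ∑ j : Fin n, f j.succ ≫ φ j.succ := fun N f => by
      rw [Fin.sum_univ_succ]
    have hψ : ∀ (N : DerivedCategory C) (f : ∀ j : Fin n, N ⟶ (singleFunctor C (d j.succ)).obj (M j.succ)),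
        (∑ j, f j ≫ φ j.succ ≫ ψ) = (∑ j, f j ≫ φ j.succ) ≫ ψ := fun N f => by
      rw [Preadditive.sum_comp]
      simp
    constructor
    · -- injectivity
      have key : ∀ f : (∀ j, N ⟶ (singleFunctor C (d j)).obj (M j)), (∑ j, f j ≫ φ j) = 0 → f = 0 := by
        intro f hf
        rw [hsum] at hf
        have e1 : (∑ j : Fin n, f j.succ ≫ φ j.succ ≫ ψ) = 0 := by
          rw [hψ]
          have h5 : (f 0 ≫ φ 0 + ∑ j : Fin n, f j.succ ≫ φ j.succ) ≫ ψ = 0 := by rw [hf, zero_comp]
          rw [Preadditive.add_comp, Category.assoc] at h5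
          have h6 : φ 0 ≫ ψ = 0 := comp_distTriang_mor_zero₁₂ _ hT
          rwa [h6, comp_zero, zero_add] at h5
        have e2 : (fun j : Fin n => f j.succ) = 0 := by
          apply (hI N).1
          dsimp only
          rw [e1]
          simp
        have e3 : ∀ j : Fin n, f j.succ = 0 := fun j => congrFun e2 j
        have e4 : f 0 ≫ φ 0 = 0 := by
          rw [← hf]
          simp [e3]
        have e5 : f 0 = 0 := by
          have e6 : (f 0)⟦(1 : ℤ)⟧' ≫ (Triangle.mk (φ 0) ψ δ).mor₁⟦(1 : ℤ)⟧' = 0 := by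
            change (f 0)⟦(1 : ℤ)⟧' ≫ (φ 0)⟦(1 : ℤ)⟧' = 0
            rw [← Functor.map_comp, e4, Functor.map_zero]
          obtain ⟨g, hg⟩ : ∃ g : N⟦(1 : ℤ)⟧ ⟶ C0, (f 0)⟦(1 : ℤ)⟧' = g ≫ δ :=
            Triangle.coyoneda_exact₁ _ hT _ e6
          obtain ⟨g', hg'⟩ := (hI _).2 g
          dsimp only at hg'
          rw [hψ] at hg'
          have e7 : (f 0)⟦(1 : ℤ)⟧' = 0 := by
            have h8 : ψ ≫ δ = 0 := comp_distTriang_mor_zero₂₃ _ hT
            rw [hg, ← hg', Category.assoc, h8, comp_zero]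
          exact (shiftFunctor (DerivedCategory C) (1 : ℤ)).map_injective (by rw [e7, Functor.map_zero])
        funext j
        refine Fin.cases e5 e3 j
      intro f g hfg
      have h := key (f - g) (by
        dsimp only at hfg
        simp only [Pi.sub_apply, Preadditive.sub_comp, Finset.sum_sub_distrib, hfg, sub_self])
      exact sub_eq_zero.1 h
    · intro g
      obtain ⟨f', hf'⟩ := (hI N).2 (g ≫ ψ)
      dsimp only at hf'
      rw [hψ] at hf'
      have e1 : (g - ∑ j, f' j ≫ φ j.succ) ≫ (Triangle.mk (φ 0) ψ δ).mor₂ = 0 := by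
        change (g - ∑ j, f' j ≫ φ j.succ) ≫ ψ = 0
        rw [Preadditive.sub_comp, hf', sub_self]
      obtain ⟨f0, hf0⟩ : ∃ f0 : N ⟶ (singleFunctor C (d 0)).obj (M 0), g - ∑ j, f' j ≫ φ j.succ = f0 ≫ φ 0 :=
        Triangle.coyoneda_exact₂ _ hT _ e1
      refine ⟨Fin.cases f0 f', ?_⟩
      refine (hsum N _).trans ?_
      change f0 ≫ φ 0 + ∑ j, f' j ≫ φ j.succ = g
      rw [← hf0]
      simp

end Groth.Agent.Lefpen.H709.DSum
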