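import Groth.Agent.Cohder.RDAcyc

/-!
# Units of adjunctions and derived functors along a short exact sequence
-/

set_option autoImplicit false
universe v₁ v₂ v₃ u₁ u₂ u₃

open CategoryTheory CategoryTheory.Limits

namespace Groth.Agent.Lefpen.H709.UnitLes

open Cohder

section Units

variable {C : Type u₁} [Category.{v₁} C] {D : Type u₂} [Category.{v₂} D]

theorem isIso_of_bijective {X Y : C} (f : X ⟶ Y) (h : ∀ N : C, Function.Bijective fun g : N ⟶ X => g ≫ f) :
    IsIso f := by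
  obtain ⟨g, hg⟩ := (h Y).2 (𝟙 Y)
  refine ⟨g, ?_, hg⟩
  apply (h X).1
  change (f ≫ g) ≫ f = 𝟙 X ≫ f
  have hg' : g ≫ f = 𝟙 Y := hg
  rw [Category.assoc, hg', Category.comp_id, Category.id_comp]

/-- `M → R L M` is an isomorphism iff `L` is bijective on morphisms to `M`. -/
theorem isIso_unit_iff {L : C ⥤ D} {R : D ⥤ C} (adj : L ⊣ R) (M : C) :
    IsIso (adj.unit.app M) ↔ ∀ N : C, Function.Bijective fun f : N ⟶ M => L.map f := by
  have key : ∀ N : C, (fun f : N ⟶ M => adj.homEquiv _ _ (L.map f)) = fun f : N ⟶ M => f ≫ adj.unit.app M := by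
    intro N
    ext f
    rw [Adjunction.homEquiv_unit]
    exact (adj.unit.naturality f).symm
  constructor
  · intro h N
    have h1 : Function.Bijective (fun f : N ⟶ M => adj.homEquiv _ _ (L.map f)) := by
      rw [key]
      constructor
      · intro f g hfg
        exact (cancel_mono (adj.unit.app M)).1 hfg
      · intro g
        exact ⟨g ≫ inv (adj.unit.app M), by simp⟩
    exact (Equiv.comp_bijective _ (adj.homEquiv N (L.obj M))).1 h1
  · intro h
    refine isIso_of_bijective _ fun N => ?_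
    have h9 : Function.Bijective (fun f : N ⟶ M => adj.homEquiv _ _ (L.map f)) :=
      (adj.homEquiv N (L.obj M)).bijective.comp (h N)
    rw [key] at h9
    exact h9

theorem isIso_unit_of_iso {L₁ L₂ : C ⥤ D} {R₁ R₂ : D ⥤ C} (adj₁ : L₁ ⊣ R₁) (adj₂ : L₂ ⊣ R₂) (e : L₁ ≅ L₂) (M : C)
    (h : IsIso (adj₁.unit.app M)) : IsIso (adj₂.unit.app M) := by
  rw [isIso_unit_iff] at h ⊢
  intro N
  have h1 : (fun f : N ⟶ M => L₂.map f) = fun f : N ⟶ M => e.inv.app N ≫ L₁.map f ≫ e.hom.app M := by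
    ext f
    rw [e.hom.naturality, e.inv_hom_id_app_assoc]
  rw [h1]
  exact ((((Iso.refl _).homCongr (e.app M)).bijective).comp (((e.app N).homCongr (Iso.refl _)).bijective.comp
    (h N))) |> fun hh => by
      convert hh using 1
      ext f
      simp [Iso.homCongr]

variable {E : Type u₃} [Category.{v₃} E]

/-- If the units of `L₁ ⋙ L₂` at `M` and of `L₂` at `L₁ M` are isomorphisms then so is that of `L₁` at `M`. -/
theorem isIso_unit_of_comp {L₁ : C ⥤ D} {R₁ : D ⥤ C} (adj₁ : L₁ ⊣ R₁) {L₂ : D ⥤ E} {R₂ : E ⥤ D} (adj₂ : L₂ ⊣ R₂)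
    {L : C ⥤ E} {R : E ⥤ C} (adj : L ⊣ R) (e : L ≅ L₁ ⋙ L₂) (M : C)
    (h : IsIso (adj.unit.app M)) (h2 : IsIso (adj₂.unit.app (L₁.obj M))) : IsIso (adj₁.unit.app M) := by
  have h3 := isIso_unit_of_iso adj (adj₁.comp adj₂) e M h
  rw [isIso_unit_iff] at h2 h3 ⊢
  intro N
  have h4 : Function.Bijective ((fun f : L₁.obj N ⟶ L₁.obj M => L₂.map f) ∘ fun f : N ⟶ M => L₁.map f) := h3 N
  exact ((h2 (L₁.obj N)).of_comp_iff' _).1 h4

end Units

section Five

variable {C : Type u₁} [Category.{v₁} C] [Abelian C]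

theorem isIso_τ₃ {S₁ S₂ : ShortComplex C} (φ : S₁ ⟶ S₂) (h₁ : S₁.ShortExact) (h₂ : S₂.ShortExact)
    (i₁ : IsIso φ.τ₁) (i₂ : IsIso φ.τ₂) : IsIso φ.τ₃ := by
  have := h₁.epi_g
  have := h₂.epi_g
  have e1 : S₂.f ≫ inv φ.τ₂ ≫ S₁.g = 0 := by
    have h3 : S₂.f ≫ inv φ.τ₂ = inv φ.τ₁ ≫ S₁.f := by
      rw [IsIso.comp_inv_eq, Category.assoc, ← φ.comm₁₂, IsIso.inv_hom_id_assoc]
    rw [← Category.assoc, h3, Category.assoc, S₁.zero, comp_zero]
  refine ⟨h₂.exact.desc (inv φ.τ₂ ≫ S₁.g) e1, ?_, ?_⟩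
  · rw [← cancel_epi S₁.g, ← φ.comm₂₃_assoc, h₂.exact.g_desc, IsIso.hom_inv_id_assoc, Category.comp_id]
  · rw [← cancel_epi S₂.g, h₂.exact.g_desc_assoc, Category.assoc, ← φ.comm₂₃, IsIso.inv_hom_id_assoc,
      Category.comp_id]

end Five

section Main

variable {C : Type u₁} [Category.{v₁} C] [Abelian C] {D : Type u₂} [Category.{v₂} D] [Abelian D]
  [HasInjectiveResolutions D]
  {L : C ⥤ D} {R : D ⥤ C} [L.Additive] [R.Additive] [PreservesFiniteLimits L] [PreservesFiniteColimits L]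
  [PreservesFiniteLimits R] (adj : L ⊣ R) {S : ShortComplex C} (hS : S.ShortExact)

include hS

/-- If `S.X₁` is acyclic for the adjunction and the unit at `S.X₂` is an isomorphism then so is the unit at `S.X₃`. -/
theorem isIso_unit_X₃ (i₁ : IsIso (adj.unit.app S.X₁)) (i₂ : IsIso (adj.unit.app S.X₂))
    (h : IsZero ((R.rightDerived 1).obj (L.obj S.X₁))) : IsIso (adj.unit.app S.X₃) := by
  have h1 : (S.map L).ShortExact := hS.map_of_exact L
  have h2 : ((S.map L).map R).ShortExact := RDAcyc.map_shortExact R h1 h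
  let φ : S ⟶ (S.map L).map R :=
    { τ₁ := adj.unit.app S.X₁
      τ₂ := adj.unit.app S.X₂
      τ₃ := adj.unit.app S.X₃
      comm₁₂ := (adj.unit.naturality S.f).symm
      comm₂₃ := (adj.unit.naturality S.g).symm }
  exact isIso_τ₃ φ hS h2 i₁ i₂

omit [PreservesFiniteLimits R] in
/-- If `R^q R (L S.X₁) = 0` for `q > 0`, then `R^q R (L S.X₂) ≅ R^q R (L S.X₃)` for `q > 0`. -/
theorem isIso_rightDerived (h : ∀ q : ℕ, 0 < q → IsZero ((R.rightDerived q).obj (L.obj S.X₁))) (q : ℕ) (hq : 0 < q) :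
    IsIso ((R.rightDerived q).map (L.map S.g)) := by
  have h1 : (S.map L).ShortExact := hS.map_of_exact L
  obtain ⟨-, h2, δ, hδ⟩ := RDLES.exists_les R h1
  have h3 := h2 q ((h q hq).eq_of_src _ _)
  obtain ⟨w₁, w₂, h4, h5⟩ := hδ q
  have h6 : Mono ((R.rightDerived q).map (L.map S.g)) :=
    (ShortComplex.exact_iff_mono _ ((h q hq).eq_of_src _ _)).1 h3
  have h7 : Epi ((R.rightDerived q).map (L.map S.g)) :=
    (ShortComplex.exact_iff_epi _ ((h (q + 1) (by omega)).eq_of_tgt _ _)).1 h4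
  exact isIso_of_mono_of_epi _

end Main

end Groth.Agent.Lefpen.H709.UnitLes
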