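import Groth.Agent.Lefpen.H709.Final
import Groth.Agent.Lefpen.H709.UnitLes
import Groth.Agent.Etrest.DEtPush
import Groth.Agent.Etrest.BlowGeom
import Groth.Agent.Sga4B.ShriekTools

/-!
# Cohomology of a blow-up from purity, étale form
-/

set_option autoImplicit false
universe u

open CategoryTheory CategoryTheory.Limits AlgebraicGeometry Opposite CategoryTheory.Abelian

attribute [local instance] HasDerivedCategory.standard

namespace Groth.Agent.Lefpen.H709.Et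

open Sga4h.PushDer Sga4h.Acyc EtpbcA.OverSite Groth.Agent.Etrest Groth.Agent.Etrest.DEtPush Final UnitLes

variable {X X' Z U E U' : Scheme.{u}}

/-- The formal statement for étale sheaves: `b : X' ⟶ X`, `j' : U' ⟶ X'`, `M`, `D` sheaves on `X`. -/
theorem exists_psi_et (b : X' ⟶ X) (j' : U' ⟶ X') (jb : U' ⟶ X) (w : j' ≫ b = jb)
    [hb' : PreservesFiniteLimits (EtCoh.pull b)] (c : ℕ) (M D : EtCoh.Ab X) (π : M ⟶ D)
    (h1 : IsIso ((EtCoh.pullPushAdj jb).unit.app M)) (h2 : IsIso ((EtCoh.pullPushAdj b).unit.app D))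
    (h3 : ∀ q : ℕ, 1 ≤ q → IsIso ((EtCoh.Rpush b q).map ((EtCoh.pull b).map π)))
    (h4 : IsIso ((EtCoh.pullPushAdj j').unit.app ((EtCoh.pull b).obj M)))
    (h5 : Nonempty ((EtCoh.Rpush j' 1).obj ((EtCoh.pull j').obj ((EtCoh.pull b).obj M)) ≅ (EtCoh.pull b).obj D))
    (h6 : ∀ q : ℕ, 2 ≤ q → IsZero ((EtCoh.Rpush j' q).obj ((EtCoh.pull j').obj ((EtCoh.pull b).obj M))))
    (h7 : ∀ q : ℕ, q ≠ 0 → q ≠ 2 * c + 1 → IsZero ((EtCoh.Rpush jb q).obj ((EtCoh.pull jb).obj M)))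
    (h8 : ∃ n : ℕ, ∀ q : ℕ, n < q → IsZero ((EtCoh.Rpush b q).obj ((EtCoh.pull b).obj M))) (r : ℕ) :
    ∃ Ψ : (EtCoh.H X M r × (∀ j : {j : Fin c // 2 * (j.1 + 1) ≤ r}, EtCoh.H X D (r - 2 * (j.1.1 + 1)))) ≃+
        EtCoh.H X' ((EtCoh.pull b).obj M) r,
      ∀ e : EtCoh.H X M r, Ψ (e, 0) = EtCore.Hpull b M r e := by
  have e1 := Etcore.PullCoh.theta j' b jb w
  have k1 : IsIso ((EtCoh.pullPushAdj b).unit.app M) :=
    isIso_unit_of_comp (EtCoh.pullPushAdj b) (EtCoh.pullPushAdj j') (EtCoh.pullPushAdj jb) e1.symm M h1 h4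
  have k7 : ∀ q : ℕ, q ≠ 0 → q ≠ 2 * c + 1 →
      IsZero (((EtCoh.push j' ⋙ EtCoh.push b).rightDerived q).obj ((EtCoh.pull j').obj ((EtCoh.pull b).obj M))) := by
    intro q hq1 hq2
    subst w
    have e2 : EtCoh.push j' ⋙ EtCoh.push b ≅ EtCoh.push (j' ≫ b) := EtCoh.pushComp b j'
    exact ((h7 q hq1 hq2).of_iso ((EtCoh.Rpush (j' ≫ b) q).mapIso (e1.app M))).of_iso
      ((Sga4h.LerayAcyc.rightDerivedCongr e2 q).app _)
  exact exists_psi (EtCoh.pullPushAdj b) (EtCoh.pullPushAdj j') c M D π k1 h2 h3 h4 h5 h6 k7 h8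
    (EtCore.pullConst b ℤ).symm r

section Geometric

variable (b : X' ⟶ X) (i : Z ⟶ X) [IsClosedImmersion i] (j : U ⟶ X) [IsOpenImmersion j]
  (hd : IsCompl (Set.range i) (Set.range j)) (j' : U' ⟶ X') (bU : U' ⟶ U)
  (h : IsPullback j' bU b j) [IsIso bU] (i' : E ⟶ X') (π : E ⟶ Z) (hE : IsPullback i' π b i)

include hd h hE in
/-- Blow-up square: `b` proper, an isomorphism off `Z`; `M` a torsion sheaf on `X` with purity for `j` and `j'`. -/
theorem exists_psi_blow [IsProper b] (jb : U' ⟶ X) (w : j' ≫ b = jb)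
    [hb' : PreservesFiniteLimits (EtCoh.pull b)] (c : ℕ) (M : EtCoh.Ab X) (hM : EtCoh.IsTorsion M)
    (h1 : IsIso ((EtCoh.pullPushAdj jb).unit.app M))
    (h4 : IsIso ((EtCoh.pullPushAdj j').unit.app ((EtCoh.pull b).obj M)))
    (h5 : Nonempty ((EtCoh.Rpush j' 1).obj ((EtCoh.pull j').obj ((EtCoh.pull b).obj M)) ≅
      (EtCoh.pull b).obj ((EtCoh.push i).obj ((EtCoh.pull i).obj M))))
    (h6 : ∀ q : ℕ, 2 ≤ q → IsZero ((EtCoh.Rpush j' q).obj ((EtCoh.pull j').obj ((EtCoh.pull b).obj M))))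
    (h7 : ∀ q : ℕ, q ≠ 0 → q ≠ 2 * c + 1 → IsZero ((EtCoh.Rpush jb q).obj ((EtCoh.pull jb).obj M)))
    (h8 : ∃ n : ℕ, ∀ q : ℕ, n < q → IsZero ((EtCoh.Rpush b q).obj ((EtCoh.pull b).obj M))) (r : ℕ) :
    ∃ Ψ : (EtCoh.H X M r × (∀ j : {j : Fin c // 2 * (j.1 + 1) ≤ r},
        EtCoh.H X ((EtCoh.push i).obj ((EtCoh.pull i).obj M)) (r - 2 * (j.1.1 + 1)))) ≃+
        EtCoh.H X' ((EtCoh.pull b).obj M) r,
      ∀ e : EtCoh.H X M r, Ψ (e, 0) = EtCore.Hpull b M r e := by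
  have hS := Etcore.OpenClosed.shortExact i j hd M
  have hT : EtCoh.IsTorsion ((EtShriek.extZero j).obj ((EtShriek.restrAlong j).obj M)) :=
    Sga4B.TorsionStalks.isTorsion_extZero j (Sga4B.TorsionStalks.isTorsion_of_iso
      ((pullIsoRestr j).app M) (Sga4B.TorsionStalks.isTorsion_pull j hM))
  have hG : IsZero ((EtCoh.pull i).obj ((EtShriek.extZero j).obj ((EtShriek.restrAlong j).obj M))) :=
    Sga4B.ShriekTools.isZero_pull_extZero j i hd.disjoint _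
  have hA := BlowGeom.acyc b i j hd j' bU h i' π hE _ hT hG
  have k1 : IsIso ((EtCoh.pullPushAdj b).unit.app M) :=
    isIso_unit_of_comp (EtCoh.pullPushAdj b) (EtCoh.pullPushAdj j') (EtCoh.pullPushAdj jb)
      (Etcore.PullCoh.theta j' b jb w).symm M h1 h4
  refine exists_psi_et b j' jb w c M _ ((EtCoh.pullPushAdj i).unit.app M) h1 ?_ ?_ h4 h5 h6 h7 h8 r
  · exact isIso_unit_X₃ (EtCoh.pullPushAdj b) hS hA.1 k1 (hA.2 1 one_pos)
  · intro q hq
    exact isIso_rightDerived (L := EtCoh.pull b) (R := EtCoh.push b) hS hA.2 q hq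

end Geometric

end Groth.Agent.Lefpen.H709.Et
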