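import Groth.Agent.Lefpen.H714.EulerAlg
import Mathlib.Analysis.SpecialFunctions.Log.Basic

/-!
# The Euler characteristic of `B ⊕ ⨁_{j < c} C[-2(j+1)]`
-/

set_option autoImplicit false

namespace Groth.Agent.Lefpen.H709.EulerNum

open Groth.Agent.Lefpen.H714.EulerAlg

/-- `lg` of a product. -/
theorem lg_prod_pi {A B : Type*} {ι : Type*} [Fintype ι] {C : ι → Type*} [Finite B] [Nonempty B]
    [∀ j, Finite (C j)] [∀ j, Nonempty (C j)] (e : A ≃ B × (∀ j, C j)) : lg A = lg B + ∑ j, lg (C j) := by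
  rw [lg_congr e]
  unfold lg
  rw [Nat.card_prod, Nat.card_pi, Nat.cast_mul, Nat.cast_prod,
    Real.log_mul (by exact_mod_cast Nat.card_pos.ne')
      (Finset.prod_ne_zero_iff.2 fun j _ => by exact_mod_cast Nat.card_pos.ne'),
    Real.log_prod (fun j _ => by exact_mod_cast Nat.card_pos.ne')]

theorem sum_shift (f : ℕ → ℝ) (a N : ℕ) (ha : a ≤ N) (he : Even a) :
    ∑ q ∈ Finset.range N, (if a ≤ q then (-1 : ℝ) ^ q * f (q - a) else 0) =
      ∑ p ∈ Finset.range (N - a), (-1 : ℝ) ^ p * f p := by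
  obtain ⟨M, rfl⟩ := Nat.exists_eq_add_of_le ha
  rw [Finset.sum_range_add, Nat.add_sub_cancel_left]
  rw [Finset.sum_eq_zero (fun q hq => by
    rw [if_neg]
    have := Finset.mem_range.1 hq
    omega), zero_add]
  refine Finset.sum_congr rfl fun p _ => ?_
  rw [if_pos (Nat.le_add_right a p), Nat.add_sub_cancel_left, pow_add, he.neg_one_pow, one_mul]

variable {A B C : ℕ → Type*} (c : ℕ)
  (e : ∀ q, Nonempty (A q ≃ B q × (∀ j : {j : Fin c // 2 * (j.1 + 1) ≤ q}, C (q - 2 * (j.1.1 + 1)))))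
  (hB : Good B) (hC : Good C)

include e hB hC

theorem good : Good A where
  fin q := by
    have := hB.fin q
    have := fun p => hC.fin p
    exact Finite.of_equiv _ (e q).some.symm
  bdd := by
    obtain ⟨b, hb⟩ := hB.bdd
    obtain ⟨b', hb'⟩ := hC.bdd
    refine ⟨b + b' + 2 * c, fun n hn => ?_⟩
    have := hb n (by omega)
    have : ∀ j : {j : Fin c // 2 * (j.1 + 1) ≤ n}, Subsingleton (C (n - 2 * (j.1.1 + 1))) := fun j =>
      hb' _ (by have := j.1.2; omega)
    exact (e n).some.subsingleton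

theorem chi_eq [∀ q, Nonempty (B q)] [∀ q, Nonempty (C q)] : chi A = chi B + (c : ℝ) * chi C := by
  obtain ⟨b, hb⟩ := hB.bdd
  obtain ⟨b', hb'⟩ := hC.bdd
  have hfB := hB.fin
  have hfC := hC.fin
  have h0 : ∀ n, b + b' + 2 * c < n → Subsingleton (A n) := fun n hn => by
    have := hb n (by omega)
    have : ∀ j : {j : Fin c // 2 * (j.1 + 1) ≤ n}, Subsingleton (C (n - 2 * (j.1.1 + 1))) := fun j =>
      hb' _ (by have := j.1.2; omega)
    exact (e n).some.subsingleton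
  have h1 : ∀ q, lg (A q) = lg (B q) +
      ∑ j : Fin c, (if 2 * (j.1 + 1) ≤ q then lg (C (q - 2 * (j.1 + 1))) else 0) := fun q => by
    rw [lg_prod_pi (e q).some]
    congr 1
    rw [← Finset.sum_filter]
    exact (Finset.sum_subtype (Finset.univ.filter fun j : Fin c => 2 * (j.1 + 1) ≤ q) (by simp)
      (fun j : Fin c => lg (C (q - 2 * (j.1 + 1))))).symm
  rw [chi_eq_sum _ h0, chi_eq_sum (A := B) (b + b' + 2 * c) (fun n hn => hb n (by omega))]
  have h4 : ∀ q ∈ Finset.range (b + b' + 2 * c + 1), (-1 : ℝ) ^ q * lg (A q) = (-1 : ℝ) ^ q * lg (B q) +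
      ∑ j : Fin c, (-1 : ℝ) ^ q * (if 2 * (j.1 + 1) ≤ q then lg (C (q - 2 * (j.1 + 1))) else 0) :=
    fun q _ => by rw [h1, mul_add, Finset.mul_sum]
  rw [Finset.sum_congr rfl h4, Finset.sum_add_distrib]
  congr 1
  rw [Finset.sum_comm]
  have h2 : ∀ j : Fin c, ∑ q ∈ Finset.range (b + b' + 2 * c + 1),
      (-1 : ℝ) ^ q * (if 2 * (j.1 + 1) ≤ q then lg (C (q - 2 * (j.1 + 1))) else 0) = chi C := fun j => by
    have hj := j.2
    have h3 := sum_shift (fun q => lg (C q)) (2 * (j.1 + 1)) (b + b' + 2 * c + 1) (by omega) ⟨j.1 + 1, by ring⟩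
    simp only [mul_ite, mul_zero]
    rw [h3, show b + b' + 2 * c + 1 - 2 * (j.1 + 1) = (b + b' + 2 * c - 2 * (j.1 + 1)) + 1 by omega,
      chi_eq_sum (A := C) (b + b' + 2 * c - 2 * (j.1 + 1)) (fun n hn => hb' n (by omega))]
  rw [Finset.sum_congr rfl fun j _ => h2 j, Finset.sum_const, Finset.card_univ, Fintype.card_fin, nsmul_eq_mul]

end Groth.Agent.Lefpen.H709.EulerNum
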