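import Groth.Agent.S4028
import Groth.Agent.S0101
import Groth.Agent.Lefpen.H709.EulerNum
import Groth.Agent.Lefpen.H714.NcFinite
import Groth.Agent.Lefpen.H714.EcBasic
import Groth.Agent.Ega3B.ProjProper
import Groth.Prelude.Def_LefMon

/-!
# The mod `ℓ` Euler characteristic of a blow-up in a smooth centre

* `main`: `ec ℓ X' = ec ℓ X + c * ec ℓ Δ` for the blow-up of a smooth `X` in a smooth centre `Δ` of codimension `c + 1`;
* `ec_blowUp`: `ec ℓ X' = ec ℓ X + ec ℓ (X ∩ V(F) ∩ V(G))` for the blow-up of a smooth projective `X` of dimension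
  `n ≥ 1` in a transversal base locus.
-/

set_option autoImplicit false
universe u

open CategoryTheory CategoryTheory.Limits AlgebraicGeometry

namespace Groth.Agent.Lefpen.H709.EulerBlow

open Groth.Agent.Lefpen.H714.EulerAlg Groth.Agent.Lefpen.H714.EulerEt

theorem decomp (k : Type u) [Field k] [IsSepClosed k] (ℓ : ℕ) (hℓ0 : 0 < ℓ)
    (hℓ : (ℓ : k) ≠ 0) (n c : ℕ) (hc : c + 1 ≤ n) {X X' : Scheme.{u}} (f : X ⟶ Spec (CommRingCat.of k))
    [SmoothOfRelativeDimension n f] (𝓘 : X.IdealSheafData)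
    [SmoothOfRelativeDimension (n - (c + 1)) (𝓘.subschemeι ≫ f)] (b : X' ⟶ X) (hb : BlowUp.IsBlowUp b 𝓘) (q : ℕ) :
    Nonempty (EtCoh.H X' (EtCoh.const X' (ZMod ℓ)) q ≃
      EtCoh.H X (EtCoh.const X (ZMod ℓ)) q ×
        (∀ j : {j : Fin c // 2 * (j.1 + 1) ≤ q},
          EtCoh.H 𝓘.subscheme (EtCoh.const 𝓘.subscheme (ZMod ℓ)) (q - 2 * (j.1.1 + 1)))) := by
  have hb' : PreservesFiniteLimits (EtCoh.pull b) := Groth.Agent.S0101.result b
  exact ⟨(Groth.Agent.S4028.result k ℓ hℓ0 hℓ n c hc f 𝓘 b hb q).2.2.some.toEquiv⟩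

/-- The Euler characteristic of the blow-up of a smooth scheme in a smooth centre of codimension `c + 1`. -/
theorem main (k : Type u) [Field k] [IsSepClosed k] (ℓ : ℕ) (hℓ0 : 0 < ℓ)
    (hℓ : (ℓ : k) ≠ 0) (n c : ℕ) (hc : c + 1 ≤ n) {X X' : Scheme.{u}} (f : X ⟶ Spec (CommRingCat.of k))
    [SmoothOfRelativeDimension n f] (𝓘 : X.IdealSheafData)
    [SmoothOfRelativeDimension (n - (c + 1)) (𝓘.subschemeι ≫ f)] (b : X' ⟶ X) (hb : BlowUp.IsBlowUp b 𝓘)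
    (hX : GoodE X (EtCoh.const X (ZMod ℓ))) (hZ : GoodE 𝓘.subscheme (EtCoh.const 𝓘.subscheme (ZMod ℓ))) :
    GoodE X' (EtCoh.const X' (ZMod ℓ)) ∧ ec ℓ X' = ec ℓ X + (c : ℝ) * ec ℓ 𝓘.subscheme :=
  ⟨EulerNum.good c (decomp k ℓ hℓ0 hℓ n c hc f 𝓘 b hb) hX hZ,
    EulerNum.chi_eq c (decomp k ℓ hℓ0 hℓ n c hc f 𝓘 b hb) hX hZ⟩

/-- The same for proper `X`. -/
theorem main_proper (k : Type u) [Field k] [IsSepClosed k] (ℓ : ℕ) (hℓ0 : 0 < ℓ)
    (hℓ : (ℓ : k) ≠ 0) (n c : ℕ) (hc : c + 1 ≤ n) {X X' : Scheme.{u}} (f : X ⟶ Spec (CommRingCat.of k))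
    [IsProper f] [SmoothOfRelativeDimension n f] (𝓘 : X.IdealSheafData)
    [SmoothOfRelativeDimension (n - (c + 1)) (𝓘.subschemeι ≫ f)] (b : X' ⟶ X) (hb : BlowUp.IsBlowUp b 𝓘) :
    GoodE X' (EtCoh.const X' (ZMod ℓ)) ∧ ec ℓ X' = ec ℓ X + (c : ℝ) * ec ℓ 𝓘.subscheme :=
  main k ℓ hℓ0 hℓ n c hc f 𝓘 b hb (H714.NcFinite.goodE_proper ℓ hℓ0 X f)
    (H714.NcFinite.goodE_proper ℓ hℓ0 𝓘.subscheme (𝓘.subschemeι ≫ f))

/-- A blow-up of a smooth proper scheme of relative dimension `n ≥ 1` in a transversal centre of codimension two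
(which may be empty if `n = 1`). -/
theorem codim_two (k : Type u) [Field k] [IsSepClosed k] (ℓ : ℕ) (hℓ0 : 0 < ℓ) (hℓ : (ℓ : k) ≠ 0) (n : ℕ) (hn : 1 ≤ n)
    {X X' : Scheme.{u}} (f : X ⟶ Spec (CommRingCat.of k)) [IsProper f] [hf : SmoothOfRelativeDimension n f]
    (𝓘 : X.IdealSheafData) (hT : LefPen.Transversal k n 2 (𝓘.subschemeι ≫ f)) (b : X' ⟶ X)
    (hb : BlowUp.IsBlowUp b 𝓘) :
    GoodE X' (EtCoh.const X' (ZMod ℓ)) ∧ ec ℓ X' = ec ℓ X + ec ℓ 𝓘.subscheme := by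
  rcases hT with ⟨h2, hs⟩ | ⟨h2, hE⟩
  · have h3 := main_proper k ℓ hℓ0 hℓ n 1 h2 f 𝓘 b hb
    rwa [Nat.cast_one, one_mul] at h3
  · obtain rfl : n = 1 := by omega
    have hs : SmoothOfRelativeDimension (1 - (0 + 1)) (𝓘.subschemeι ≫ f) := by
      have : IsOpenImmersion (𝓘.subschemeι ≫ f) := inferInstance
      show SmoothOfRelativeDimension 0 (𝓘.subschemeι ≫ f)
      infer_instance
    obtain ⟨h3, h4⟩ := main_proper k ℓ hℓ0 hℓ 1 0 le_rfl f 𝓘 b hb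
    refine ⟨h3, ?_⟩
    rw [h4, Nat.cast_zero, zero_mul, H714.EcBasic.ec_empty 𝓘.subscheme ℓ]

variable (k : Type u) [Field k] [IsSepClosed k] {r n d : ℕ} (hn : 1 ≤ n) {X X' : Scheme.{u}}
  (i : X ⟶ CohB1.ProjSpace r k) [IsClosedImmersion i] [hX : SmoothOfRelativeDimension n (i ≫ CohB1.ProjSpace.toSpec r k)]
  (F G : LefPen.Form r k d)
  (hT2 : LefPen.Transversal k n 2 (LefPen.secToSpec i ({F, G} : Set (LefPen.Form r k d))))
  (b : X' ⟶ X)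
  (hb : BlowUp.IsBlowUp b (LefPen.secIdeal i ({F, G} : Set (LefPen.Form r k d))))
  (ℓ : ℕ) (hℓ : (ℓ : k) ≠ 0)

include hn hX hT2 hb hℓ

/-- The blow-up of a smooth projective scheme of dimension `n ≥ 1` in a transversal base locus. -/
theorem goodE_ec : GoodE X' (EtCoh.const X' (ZMod ℓ)) ∧
    ec ℓ X' = ec ℓ X + ec ℓ (LefPen.Sec i ({F, G} : Set (LefPen.Form r k d))) := by
  have hℓ0 : 0 < ℓ := Nat.pos_of_ne_zero (by rintro rfl; exact hℓ Nat.cast_zero)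
  have hP : IsProper (CohB1.ProjSpace.toSpec r k) := Groth.Agent.Ega3B.ProjProper.isProper_toSpec _ _
  exact codim_two k ℓ hℓ0 hℓ n hn (i ≫ CohB1.ProjSpace.toSpec r k) _ hT2 b hb

/-- (E) -/
theorem ec_blowUp : ec ℓ X' = ec ℓ X + ec ℓ (LefPen.Sec i ({F, G} : Set (LefPen.Form r k d))) :=
  (goodE_ec k hn i F G hT2 b hb ℓ hℓ).2

/-- The cohomology of the total space is finite. -/
theorem goodE_blowUp : GoodE X' (EtCoh.const X' (ZMod ℓ)) :=
  (goodE_ec k hn i F G hT2 b hb ℓ hℓ).1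

omit [IsClosedImmersion i] in
omit [IsSepClosed k] hn hX hT2 hb hℓ in
/-- The base locus is proper. -/
theorem isProper_sec [IsClosedImmersion i] (s : Set (LefPen.Form r k d)) : IsProper (LefPen.secToSpec i s) := by
  have hP : IsProper (CohB1.ProjSpace.toSpec r k) := Groth.Agent.Ega3B.ProjProper.isProper_toSpec _ _
  exact inferInstanceAs (IsProper ((LefPen.secIdeal i s).subschemeι ≫ i ≫ CohB1.ProjSpace.toSpec r k))

end Groth.Agent.Lefpen.H709.EulerBlow
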