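import Groth.Agent.Lefpen.H709.Split
import Mathlib.Algebra.Homology.DerivedCategory.Ext.Map

/-!
# From the derived category to `Ext` groups

* `dec X Y q : Hom(X, Y[q]) ≃+ Hom(X[-q], Y)`;
* `exists_theta`: `Ext^q(Z', L F) = Hom(Z[-q], RG (L F))` compatibly with `L`;
* `extSingle`, `subsingleton_single`: `Hom(Z[-q], D[-d])`.
-/

set_option autoImplicit false
universe t t' w w' v v' u u'
open CategoryTheory CategoryTheory.Limits Pretriangulated

noncomputable section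
namespace Groth.Agent.Lefpen.H709.ExtTr

open CategoryTheory.Abelian
open Groth.Agent.Etrest Groth.Agent.Etrest.RDer1 Groth.Agent.Etrest.RDer2 Groth.Agent.Etrest.RDer3
  Groth.Agent.Etrest.RDer4 Split

section Dec

variable {C : Type u} [Category.{v} C] [Preadditive C] [HasShift C ℤ] [∀ n : ℤ, (shiftFunctor C n).Additive]

/-- Decalage. -/
def decHom (X Y : C) (q : ℤ) : (X ⟶ Y⟦q⟧) →+ (X⟦-q⟧ ⟶ Y) :=
  AddMonoidHom.mk' (fun f => f⟦-q⟧' ≫ (shiftFunctorCompIsoId C q (-q) (add_neg_cancel q)).hom.app Y)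
    (fun f g => by rw [Functor.map_add, Preadditive.add_comp])

theorem decHom_bijective (X Y : C) (q : ℤ) : Function.Bijective (decHom X Y q) := by
  constructor
  · intro f g h
    have h1 : f⟦-q⟧' ≫ (shiftFunctorCompIsoId C q (-q) (add_neg_cancel q)).hom.app Y =
      g⟦-q⟧' ≫ (shiftFunctorCompIsoId C q (-q) (add_neg_cancel q)).hom.app Y := h
    rw [cancel_mono] at h1
    exact (shiftFunctor C (-q)).map_injective h1
  · intro g
    obtain ⟨f, hf⟩ := (shiftFunctor C (-q)).map_surjective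
      (g ≫ (shiftFunctorCompIsoId C q (-q) (add_neg_cancel q)).inv.app Y)
    refine ⟨f, ?_⟩
    change f⟦-q⟧' ≫ (shiftFunctorCompIsoId C q (-q) (add_neg_cancel q)).hom.app Y = g
    rw [hf, Category.assoc, Iso.inv_hom_id_app]
    exact Category.comp_id _

/-- `Hom(X, Y[q]) ≃+ Hom(X[-q], Y)`. -/
def dec (X Y : C) (q : ℤ) : (X ⟶ Y⟦q⟧) ≃+ (X⟦-q⟧ ⟶ Y) :=
  AddEquiv.ofBijective (decHom X Y q) (decHom_bijective X Y q)

theorem dec_apply (X Y : C) (q : ℤ) (f : X ⟶ Y⟦q⟧) : dec X Y q f =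
    f⟦-q⟧' ≫ (shiftFunctorCompIsoId C q (-q) (add_neg_cancel q)).hom.app Y := rfl

variable {D : Type u'} [Category.{v'} D] [Preadditive D] [HasShift D ℤ] [∀ n : ℤ, (shiftFunctor D n).Additive]

theorem dec_adj {Φ : C ⥤ D} {R : D ⥤ C} (adj : Φ ⊣ R) [Φ.CommShift ℤ] {X Y : C} {W : D} (q : ℤ)
    (f : X ⟶ Y⟦q⟧) (ε : Φ.obj Y ⟶ W) :
    adj.homEquiv _ _ ((Φ.commShiftIso (-q)).hom.app X ≫
      dec (Φ.obj X) W q (Φ.map f ≫ (Φ.commShiftIso q).hom.app Y ≫ ε⟦q⟧')) =
      dec X Y q f ≫ adj.homEquiv _ _ ε := by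
  apply (adj.homEquiv _ _).symm.injective
  rw [Equiv.symm_apply_apply]
  have h1 : (adj.homEquiv _ _).symm (dec X Y q f ≫ adj.homEquiv _ _ ε) = Φ.map (dec X Y q f) ≫ ε := by
    rw [Adjunction.homEquiv_naturality_left_symm, Equiv.symm_apply_apply]
  rw [h1, dec_apply, dec_apply, Functor.map_comp, Functor.map_comp, Functor.map_comp,
    Functor.map_shiftFunctorCompIsoId_hom_app]
  have h2 : (ε⟦q⟧')⟦-q⟧' ≫ (shiftFunctorCompIsoId D q (-q) (add_neg_cancel q)).hom.app W =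
      (shiftFunctorCompIsoId D q (-q) (add_neg_cancel q)).hom.app (Φ.obj Y) ≫ ε :=
    (shiftFunctorCompIsoId D q (-q) (add_neg_cancel q)).hom.naturality ε
  have h3 : Φ.map (f⟦-q⟧') ≫ (Φ.commShiftIso (-q)).hom.app (Y⟦q⟧) =
      (Φ.commShiftIso (-q)).hom.app X ≫ (Φ.map f)⟦-q⟧' := (Φ.commShiftIso (-q)).hom.naturality f
  simp only [Category.assoc]
  rw [h2, ← reassoc_of% h3]

end Dec

section Theta

variable {A : Type u} [Category.{v} A] [Abelian A] [HasDerivedCategory.{w} A] [HasExt.{t} A]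
  {B : Type u'} [Category.{v'} B] [Abelian B] [HasDerivedCategory.{w'} B] [HasExt.{t'} B] [HasKInj B]
  {L : A ⥤ B} {G : B ⥤ A} [L.Additive] [G.Additive] [PreservesFiniteLimits L] [PreservesFiniteColimits L]
  (adj : L ⊣ G)

/-- Composition with isomorphisms, as an additive equivalence. -/
def preEquiv {C : Type u} [Category.{v} C] [Preadditive C] {X X' : C} (e : X ≅ X') (Y : C) :
    (X' ⟶ Y) ≃+ (X ⟶ Y) where
  toFun f := e.hom ≫ f
  invFun f := e.inv ≫ f
  left_inv f := by simp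
  right_inv f := by simp
  map_add' f g := Preadditive.comp_add _ _ _ _ _ _

def adjEquiv {C : Type u} [Category.{v} C] [Preadditive C] {D : Type u'} [Category.{v'} D] [Preadditive D]
    {Φ : C ⥤ D} {R : D ⥤ C} (adj : Φ ⊣ R) [R.Additive] (X : C) (Y : D) :
    (Φ.obj X ⟶ Y) ≃+ (X ⟶ R.obj Y) where
  toEquiv := adj.homEquiv X Y
  map_add' f g := by
    change adj.homEquiv X Y (f + g) = adj.homEquiv X Y f + adj.homEquiv X Y g
    rw [Adjunction.homEquiv_unit, Adjunction.homEquiv_unit, Adjunction.homEquiv_unit, Functor.map_add,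
      Preadditive.comp_add]

theorem exists_theta {Z : A} {Z' : B} (z : Z' ≅ L.obj Z) (F : A) (q : ℕ) :
    ∃ Θ : Ext Z' (L.obj F) q ≃+ (((DerivedCategory.singleFunctor A 0).obj Z)⟦-(q : ℤ)⟧ ⟶
        (TR G).obj ((DerivedCategory.singleFunctor B 0).obj (L.obj F))),
      ∀ e : Ext Z F q, Θ ((Ext.mk₀ z.hom).comp (e.mapExactFunctor L) (zero_add q)) =
        dec _ _ (q : ℤ) e.hom ≫ ua adj F := by
  let Φ := L.mapDerivedCategory
  let X := (DerivedCategory.singleFunctor A 0).obj Z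
  let W := (DerivedCategory.singleFunctor B 0).obj (L.obj F)
  let i : Φ.obj X ≅ (DerivedCategory.singleFunctor B 0).obj Z' :=
    (L.mapDerivedCategorySingleFunctor 0).app Z ≪≫ (DerivedCategory.singleFunctor B 0).mapIso z.symm
  let Θ : Ext Z' (L.obj F) q ≃+ (X⟦-(q : ℤ)⟧ ⟶ (TR G).obj W) :=
    ((((Ext.homAddEquiv (X := Z') (Y := L.obj F) (n := q)).trans (preEquiv i (W⟦(q : ℤ)⟧))).trans
      (dec (Φ.obj X) W (q : ℤ))).trans (preEquiv ((Φ.commShiftIso (-(q : ℤ))).app X) W)).trans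
      (adjEquiv (dAdj adj) _ _)
  refine ⟨Θ, fun e => ?_⟩
  change (dAdj adj).homEquiv _ _ ((Φ.commShiftIso (-(q : ℤ))).hom.app X ≫ dec (Φ.obj X) W (q : ℤ)
    (i.hom ≫ ((Ext.mk₀ z.hom).comp (e.mapExactFunctor L) (zero_add q)).hom)) = _
  have h1 : i.hom ≫ ((Ext.mk₀ z.hom).comp (e.mapExactFunctor L) (zero_add q)).hom =
      Φ.map e.hom ≫ (Φ.commShiftIso (q : ℤ)).hom.app _ ≫
        ((L.mapDerivedCategorySingleFunctor 0).hom.app F)⟦(q : ℤ)⟧' := by
    rw [Ext.comp_hom, Ext.mk₀_hom, ShiftedHom.mk₀_comp, Ext.mapExactFunctor_hom]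
    change ((L.mapDerivedCategorySingleFunctor 0).hom.app Z ≫ (DerivedCategory.singleFunctor B 0).map z.inv) ≫
      (DerivedCategory.singleFunctor B 0).map z.hom ≫ (L.mapDerivedCategorySingleFunctor 0).inv.app Z ≫
        (Φ.map e.hom ≫ (Φ.commShiftIso (q : ℤ)).hom.app _) ≫
          ((L.mapDerivedCategorySingleFunctor 0).hom.app F)⟦(q : ℤ)⟧' = _
    rw [Category.assoc, ← Functor.map_comp_assoc, z.inv_hom_id, CategoryTheory.Functor.map_id, Category.id_comp,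
      Iso.hom_inv_id_app_assoc, Category.assoc]
  rw [h1]
  refine (dec_adj (dAdj adj) (q : ℤ) e.hom ((L.mapDerivedCategorySingleFunctor 0).hom.app F)).trans ?_
  rw [Adjunction.homEquiv_unit]
  rfl

end Theta

section Single

variable {A : Type u} [Category.{v} A] [Abelian A] [HasDerivedCategory.{w} A] [HasExt.{t} A]

/-- `Ext^q(Z, M) = Hom(Z[-q], M)`. -/
def extZero (Z M : A) (q : ℕ) : Ext Z M q ≃+ (((DerivedCategory.singleFunctor A 0).obj Z)⟦-(q : ℤ)⟧ ⟶
    (DerivedCategory.singleFunctor A 0).obj M) :=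
  Ext.homAddEquiv.trans (dec _ _ (q : ℤ))

def postEquiv {C : Type u} [Category.{v} C] [Preadditive C] (X : C) {Y Y' : C} (e : Y ≅ Y') :
    (X ⟶ Y) ≃+ (X ⟶ Y') where
  toFun f := f ≫ e.hom
  invFun f := f ≫ e.inv
  left_inv f := by simp
  right_inv f := by simp
  map_add' f g := Preadditive.add_comp _ _ _ _ _ _

/-- `(D[-d])[q] = D[r]` if `r + d = q`. -/
def shiftSingle (D : A) (d q r : ℤ) (h : r + d = q) :
    ((DerivedCategory.singleFunctor A d).obj D)⟦q⟧ ≅ ((DerivedCategory.singleFunctor A 0).obj D)⟦r⟧ :=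
  (shiftFunctor _ q).mapIso (((DerivedCategory.singleFunctors A).shiftIso (-d) d 0 (by simp)).symm.app D) ≪≫
    ((shiftFunctorAdd' (DerivedCategory A) (-d) q r (by rw [← h]; ring)).app _).symm

/-- `Ext^r(Z, D) = Hom(Z[-q], D[-d])` if `q = r + d`. -/
def extSingle (Z D : A) (d : ℤ) (q r : ℕ) (h : (r : ℤ) + d = q) :
    Ext Z D r ≃+ (((DerivedCategory.singleFunctor A 0).obj Z)⟦-(q : ℤ)⟧ ⟶
      (DerivedCategory.singleFunctor A d).obj D) :=
  (Ext.homAddEquiv.trans (postEquiv _ (shiftSingle D d q r h).symm)).trans (dec _ _ (q : ℤ))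

/-- `Hom(Z[-q], D[-d]) = 0` if `q < d`. -/
theorem subsingleton_single (Z D : A) (d : ℤ) (q : ℕ) (h : (q : ℤ) < d) :
    Subsingleton (((DerivedCategory.singleFunctor A 0).obj Z)⟦-(q : ℤ)⟧ ⟶
      (DerivedCategory.singleFunctor A d).obj D) := by
  have h1 : DerivedCategory.IsLE (((DerivedCategory.singleFunctor A 0).obj Z)⟦-(q : ℤ)⟧) (q : ℤ) :=
    DerivedCategory.TStructure.t.isLE_shift _ 0 (-(q : ℤ)) (q : ℤ) (by ring)
  refine ⟨fun f g => ?_⟩
  have h2 : ∀ f : ((DerivedCategory.singleFunctor A 0).obj Z)⟦-(q : ℤ)⟧ ⟶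
      (DerivedCategory.singleFunctor A d).obj D, f = 0 := fun f =>
    DerivedCategory.TStructure.t.zero_of_isLE_of_isGE f (q : ℤ) d h h1 inferInstance
  rw [h2 f, h2 g]

end Single

end Groth.Agent.Lefpen.H709.ExtTr
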