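import Groth.Agent.Lefpen.H709.ExtTr

/-!
# `Ext` groups of a split derived direct image (abstract form)
-/

set_option autoImplicit false
universe t t' w₁ w₂ w₃ v₁ v₂ v₃ u₁ u₂ u₃
open CategoryTheory CategoryTheory.Limits Pretriangulated

noncomputable section
namespace Groth.Agent.Lefpen.H709.Final

open CategoryTheory.Abelian
open Groth.Agent.Etrest Groth.Agent.Etrest.RDer1 Groth.Agent.Etrest.RDer2 Groth.Agent.Etrest.RDer3
  Groth.Agent.Etrest.RDer4 Split ExtTr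

/-- Restriction of families to the indices with possibly nonzero values. -/
def resHom {ι : Type*} (P : ι → Prop) (W : ι → Type*) [∀ i, AddCommGroup (W i)] :
    (∀ i, W i) →+ (∀ i : {i : ι // P i}, W i.1) where
  toFun f := fun i => f i.1
  map_zero' := rfl
  map_add' _ _ := rfl

theorem resHom_bijective {ι : Type*} (P : ι → Prop) (W : ι → Type*) [∀ i, AddCommGroup (W i)]
    (h : ∀ i, ¬ P i → Subsingleton (W i)) : Function.Bijective (resHom P W) := by
  classical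
  constructor
  · intro f g hfg
    ext i
    by_cases hi : P i
    · exact congrFun hfg ⟨i, hi⟩
    · exact @Subsingleton.elim _ (h i hi) _ _
  · intro g
    refine ⟨fun i => if hi : P i then g ⟨i, hi⟩ else 0, ?_⟩
    ext i
    change (if hi : P i.1 then g ⟨i.1, hi⟩ else 0) = g i
    rw [dif_pos i.2]

/-- Restriction of families to the indices with possibly nonzero values. -/
def resPi {ι : Type*} (P : ι → Prop) (W : ι → Type*) [∀ i, AddCommGroup (W i)]
    (h : ∀ i, ¬ P i → Subsingleton (W i)) : (∀ i, W i) ≃+ (∀ i : {i : ι // P i}, W i.1) :=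
  AddEquiv.ofBijective (resHom P W) (resHom_bijective P W h)

variable {A : Type u₁} [Category.{v₁} A] [Abelian A] [HasDerivedCategory.{w₁} A] [HasExt.{t} A]
  {B : Type u₂} [Category.{v₂} B] [Abelian B] [HasDerivedCategory.{w₂} B] [HasExt.{t'} B] [HasKInj B]
  [EnoughInjectives B]
  {U : Type u₃} [Category.{v₃} U] [Abelian U] [HasDerivedCategory.{w₃} U] [HasKInj U] [EnoughInjectives U]
  {L : A ⥤ B} {G : B ⥤ A} [L.Additive] [G.Additive] [PreservesFiniteLimits L] [PreservesFiniteColimits L]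
  [PreservesFiniteLimits G] (adj : L ⊣ G)
  {L' : B ⥤ U} {G' : U ⥤ B} [L'.Additive] [G'.Additive] [PreservesFiniteLimits L'] [PreservesFiniteColimits L']
  [PreservesFiniteLimits G'] (adj' : L' ⊣ G')

include adj adj' in
theorem exists_psi (c : ℕ) (M D : A) (π : M ⟶ D)
    (h1 : IsIso (adj.unit.app M)) (h2 : IsIso (adj.unit.app D))
    (h3 : ∀ q : ℕ, 1 ≤ q → IsIso ((G.rightDerived q).map (L.map π)))
    (h4 : IsIso (adj'.unit.app (L.obj M)))
    (h5 : Nonempty ((G'.rightDerived 1).obj (L'.obj (L.obj M)) ≅ L.obj D))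
    (h6 : ∀ q : ℕ, 2 ≤ q → IsZero ((G'.rightDerived q).obj (L'.obj (L.obj M))))
    (h7 : ∀ q : ℕ, q ≠ 0 → q ≠ 2 * c + 1 → IsZero (((G' ⋙ G).rightDerived q).obj (L'.obj (L.obj M))))
    (h8 : ∃ n : ℕ, ∀ q : ℕ, n < q → IsZero ((G.rightDerived q).obj (L.obj M)))
    {Z : A} {Z' : B} (z : Z' ≅ L.obj Z) (q : ℕ) :
    ∃ Ψ : (Ext Z M q × (∀ j : {j : Fin c // 2 * (j.1 + 1) ≤ q}, Ext Z D (q - 2 * (j.1.1 + 1)))) ≃+
        Ext Z' (L.obj M) q,
      ∀ e : Ext Z M q, Ψ (e, 0) = (Ext.mk₀ z.hom).comp (e.mapExactFunctor L) (zero_add q) := by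
  obtain ⟨φ, hφ⟩ := split adj adj' c M D π h1 h2 h3 h4 h5 h6 h7 h8
  obtain ⟨Θ, hΘ⟩ := exists_theta adj z M q
  let N : DerivedCategory A := ((DerivedCategory.singleFunctor A 0).obj Z)⟦-(q : ℤ)⟧
  let W : Fin c → Type _ := fun j => (N ⟶ (DerivedCategory.singleFunctor A (2 * ((j.1 + 1 : ℕ) : ℤ))).obj D)
  have hW : ∀ j : Fin c, ¬ (2 * (j.1 + 1) ≤ q) → Subsingleton (W j) := fun j hj =>
    subsingleton_single Z D _ q (by omega)
  let E1 : ((N ⟶ (DerivedCategory.singleFunctor A 0).obj M) × (∀ j : Fin c, W j)) ≃+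
      (N ⟶ (TR G).obj ((DerivedCategory.singleFunctor B 0).obj (L.obj M))) :=
    AddEquiv.ofBijective (AddMonoidHom.mk' (fun f => f.1 ≫ ua adj M + ∑ j, f.2 j ≫ φ j) (by
      intro f g
      have h10 : (∑ j, (f + g).2 j ≫ φ j) = ∑ j, f.2 j ≫ φ j + ∑ j, g.2 j ≫ φ j := by
        rw [← Finset.sum_add_distrib]
        exact Finset.sum_congr rfl fun j _ => Preadditive.add_comp _ _ _ (f.2 j) (g.2 j) (φ j)
      have h11 : (f + g).1 ≫ ua adj M = f.1 ≫ ua adj M + g.1 ≫ ua adj M :=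
        Preadditive.add_comp _ _ _ f.1 g.1 _
      rw [h10, h11]
      abel)) (hφ N)
  let E2 : (∀ j : {j : Fin c // 2 * (j.1 + 1) ≤ q}, Ext Z D (q - 2 * (j.1.1 + 1))) ≃+ (∀ j : Fin c, W j) :=
    (AddEquiv.piCongrRight (fun j : {j : Fin c // 2 * (j.1 + 1) ≤ q} =>
      extSingle Z D (2 * ((j.1.1 + 1 : ℕ) : ℤ)) q (q - 2 * (j.1.1 + 1)) (by have := j.2; omega))).trans
      (resPi (fun j : Fin c => 2 * (j.1 + 1) ≤ q) W hW).symm
  let Ψ : (Ext Z M q × (∀ j : {j : Fin c // 2 * (j.1 + 1) ≤ q}, Ext Z D (q - 2 * (j.1.1 + 1)))) ≃+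
        Ext Z' (L.obj M) q := ((AddEquiv.prodCongr (extZero Z M q) E2).trans E1).trans Θ.symm
  refine ⟨Ψ, fun e => ?_⟩
  change Θ.symm (E1 (extZero Z M q e, E2 0)) = _
  rw [AddEquiv.symm_apply_eq, hΘ, map_zero]
  change (dec _ _ (q : ℤ) e.hom) ≫ ua adj M + ∑ j, (0 : ∀ j : Fin c, W j) j ≫ φ j = _
  have h9 : (∑ j, (0 : ∀ j : Fin c, W j) j ≫ φ j) = 0 :=
    Finset.sum_eq_zero fun j _ => by
      change (0 : W j) ≫ φ j = 0
      exact Limits.zero_comp
  rw [h9, add_zero]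

/-- The formal consequences of `exists_psi` for the homomorphism `e ↦ Ψ (e, 0)`. -/
theorem of_psi {H P H' : Type*} [AddCommGroup H] [AddCommGroup P] [AddCommGroup H'] (Ψ : (H × P) ≃+ H')
    (β : H →+ H') (hβ : ∀ e, Ψ (e, 0) = β e) :
    Function.Injective β ∧ Nonempty ((H' ⧸ β.range) ≃+ P) ∧ Nonempty (H' ≃+ H × P) := by
  refine ⟨?_, ?_, ⟨Ψ.symm⟩⟩
  · intro x y h
    rw [← hβ, ← hβ] at h
    exact congrArg Prod.fst (Ψ.injective h)
  · let p : H' →+ P := (AddMonoidHom.snd H P).comp Ψ.symm.toAddMonoidHom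
    have hp : Function.Surjective p := fun y => ⟨Ψ (0, y), by
      change (Ψ.symm (Ψ (0, y))).2 = y
      rw [AddEquiv.symm_apply_apply]⟩
    have hk : β.range = p.ker := by
      ext x
      constructor
      · rintro ⟨e, rfl⟩
        change (Ψ.symm (β e)).2 = 0
        rw [← hβ, AddEquiv.symm_apply_apply]
      · intro hx
        have hx' : (Ψ.symm x).2 = 0 := hx
        refine ⟨(Ψ.symm x).1, ?_⟩
        rw [← hβ, ← hx', Prod.mk.eta, AddEquiv.apply_symm_apply]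
    rw [hk]
    exact ⟨QuotientAddGroup.quotientKerEquivOfSurjective p hp⟩

end Groth.Agent.Lefpen.H709.Final
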