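import Groth.Agent.Lefpen.H709.Final

/-!
# Formal transport of additive decompositions
-/

set_option autoImplicit false
universe t t' w₁ w₂ w₃ v₁ v₂ v₃ u₁ u₂ u₃ w
open CategoryTheory CategoryTheory.Limits Pretriangulated

noncomputable section
namespace Groth.Agent.Lefpen.H709.Final

/-- Change of the summands of an additive decomposition. -/
theorem exists_transport {J : Type*} {H K : Type*} [AddCommGroup H] [AddCommGroup K] (V W : J → Type*)
    [∀ j, AddCommGroup (V j)] [∀ j, AddCommGroup (W j)] (hVW : ∀ j, Nonempty (V j ≃+ W j))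
    (Ψ : (H × (∀ j, W j)) ≃+ K) (β : H → K) (hΨ : ∀ e, Ψ (e, 0) = β e) :
    ∃ Ψ' : (H × (∀ j, V j)) ≃+ K, ∀ e, Ψ' (e, 0) = β e := by
  let e0 : (∀ j, V j) ≃+ (∀ j, W j) := AddEquiv.piCongrRight fun j => (hVW j).some
  refine ⟨(AddEquiv.prodCongr (AddEquiv.refl H) e0).trans Ψ, fun e => ?_⟩
  change Ψ (e, e0 0) = _
  rw [map_zero, hΨ]

/-- Change of the coefficients, for a functor to abelian groups. -/
theorem of_psi_functor {C : Type u₁} [Category.{v₁} C] (𝓗 : C ⥤ AddCommGrpCat.{w}) {F F' : C} (e : F ≅ F')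
    {H P : Type*} [AddCommGroup H] [AddCommGroup P] (Ψ : (H × P) ≃+ (𝓗.obj F)) (β : H →+ 𝓗.obj F)
    (hβ : ∀ x, Ψ (x, 0) = β x) :
    Function.Injective ((𝓗.map e.hom).hom.comp β) ∧
      Nonempty ((𝓗.obj F') ⧸ ((𝓗.map e.hom).hom.comp β).range ≃+ P) ∧ Nonempty (𝓗.obj F' ≃+ H × P) := by
  let E : 𝓗.obj F ≃+ 𝓗.obj F' := (𝓗.mapIso e).addCommGroupIsoToAddEquiv
  exact of_psi (Ψ.trans E) _ fun x => congrArg E (hβ x)

end Groth.Agent.Lefpen.H709.Final
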