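import Groth.Agent.Lefpen.H709.Et
import Groth.Agent.Lefpen.H709.Transp
import Groth.Agent.Lefpen.H709.Geo
import Groth.Agent.Lefpen.H496.BlowFibre
import Groth.Agent.S3099
import Groth.Agent.S0126
import Groth.Agent.S4259
import Groth.Agent.Sga5.ClosedPush
import Groth.Agent.Flat2C.BlowProper
import Groth.Agent.CurvesA.MuConst
import Groth.Agent.Etrest.ConstBasic

/-!
# Cohomology of the blow-up of a smooth centre over a separably closed field
-/

set_option autoImplicit false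
universe u

open CategoryTheory CategoryTheory.Limits AlgebraicGeometry Opposite CategoryTheory.Abelian

namespace Groth.Agent.Lefpen.H709.Main

open Sga4h.PushDer Et Groth.Agent.Divis

variable (k : Type u) [Field k]

theorem isUnit_natCast {X : Scheme.{u}} (f : X ⟶ Spec (CommRingCat.of k)) (n : ℕ) (hn : (n : k) ≠ 0) :
    IsUnit (n : Γ(X, ⊤)) := by
  have h := (IsUnit.mk0 _ hn).map ((Scheme.ΓSpecIso (CommRingCat.of k)).inv ≫ f.appTop).hom
  rwa [map_natCast] at h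

theorem isFiniteTypeIdeal {X : Scheme.{u}} [IsLocallyNoetherian X] (𝓘 : X.IdealSheafData) :
    BlowUp.IsFiniteTypeIdeal 𝓘 := fun U => by
  have := IsLocallyNoetherian.component_noetherian U
  exact (isNoetherianRing_iff_ideal_fg _).1 this _

/-- The blow-up square off the centre. -/
theorem range_compl {X X' : Scheme.{u}} (𝓘 : X.IdealSheafData) (b : X' ⟶ X) :
    Set.range (Scheme.Opens.ι (b ⁻¹ᵁ 𝓘.support.compl)) = (Set.range (𝓘.comap b).subschemeι)ᶜ := by
  rw [Scheme.Opens.range_ι, Scheme.IdealSheafData.range_subschemeι, Scheme.IdealSheafData.support_comap]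
  rfl

theorem isCompl {X : Scheme.{u}} (𝓘 : X.IdealSheafData) :
    IsCompl (Set.range 𝓘.subschemeι) (Set.range (Scheme.Opens.ι 𝓘.support.compl)) := by
  have h : Set.range (Scheme.Opens.ι 𝓘.support.compl) = (Set.range 𝓘.subschemeι)ᶜ := by
    rw [Scheme.Opens.range_ι, Scheme.IdealSheafData.range_subschemeι]
    rfl
  rw [h]
  exact isCompl_compl

theorem killedBy_of_iso {X : Scheme.{u}} {F G : EtCoh.Ab X} (e : F ≅ G) {n : ℕ} (h : EtCoh.KilledBy n F) :
    EtCoh.KilledBy n G := by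
  intro U s
  have h1 := h U (e.inv.hom.app (op U) s)
  have h2 : e.hom.hom.app (op U) (e.inv.hom.app (op U) s) = s := by
    have h3 : e.inv.hom.app (op U) ≫ e.hom.hom.app (op U) = 𝟙 _ :=
      congrArg (fun t => t.hom.app (op U)) e.inv_hom_id
    exact ConcreteCategory.congr_hom h3 s
  rw [← h2, ← map_nsmul, h1, map_zero]

/-- The residue isomorphism `R^1 j'_* Z/m = i'_* Z/m = b^* i_* Z/m`. -/
theorem nonempty_residue [IsSepClosed k] (m : ℕ) (hm0 : 0 < m) (hm : (m : k) ≠ 0) {X X' Z E U' : Scheme.{u}}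
    (b : X' ⟶ X) (i : Z ⟶ X) [IsClosedImmersion i] (i' : E ⟶ X') (π : E ⟶ Z) (hE : IsPullback i' π b i)
    (j' : U' ⟶ X') (g : X' ⟶ Spec (CommRingCat.of k))
    (p3 : Nonempty ((EtCoh.Rpush j' 1).obj (EtCoh.mu U' m) ≅ (EtCoh.push i').obj (EtCoh.const E (ZMod m)))) :
    Nonempty ((EtCoh.Rpush j' 1).obj ((EtCoh.pull j').obj ((EtCoh.pull b).obj (EtCoh.const X (ZMod m)))) ≅
      (EtCoh.pull b).obj ((EtCoh.push i).obj ((EtCoh.pull i).obj (EtCoh.const X (ZMod m))))) := by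
  have : NeZero m := ⟨hm0.ne'⟩
  obtain ⟨e1⟩ := p3
  obtain ⟨e2⟩ := CurvesA.MuConst.nonempty_iso_const_mu_of_isSepClosed (X := U') k m hm (j' ≫ g)
  have hT : EtCoh.IsTorsion ((EtCoh.pull i).obj (EtCoh.const X (ZMod m))) :=
    Sga4B.TorsionStalks.isTorsion_pull i (Etrest.ConstBasic.isTorsion_of_killedBy hm0
      (Etrest.ConstBasic.killedBy_const X (ZMod m) m (fun a => by simp)))
  have h1 := (Groth.Agent.S0001.result Z X E X' i b i' π hE.flip ((EtCoh.pull i).obj (EtCoh.const X (ZMod m)))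
    hT).2
  let e3 : (EtCoh.pull j').obj ((EtCoh.pull b).obj (EtCoh.const X (ZMod m))) ≅ EtCoh.const U' (ZMod m) :=
    (EtCoh.pull j').mapIso (EtCore.pullConst b (ZMod m)) ≪≫ EtCore.pullConst j' (ZMod m)
  let e4 : (EtCoh.pull π).obj ((EtCoh.pull i).obj (EtCoh.const X (ZMod m))) ≅ EtCoh.const E (ZMod m) :=
    (EtCoh.pull π).mapIso (EtCore.pullConst i (ZMod m)) ≪≫ EtCore.pullConst π (ZMod m)
  exact ⟨(EtCoh.Rpush j' 1).mapIso (e3 ≪≫ e2) ≪≫ e1 ≪≫ (EtCoh.push i').mapIso e4.symm ≪≫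
    (asIso (EtCoh.baseChange0 i b i' π hE.flip.w ((EtCoh.pull i).obj (EtCoh.const X (ZMod m))))).symm⟩

theorem main [IsSepClosed k] (m : ℕ) (hm0 : 0 < m) (hm : (m : k) ≠ 0) (M c : ℕ) {X X' : Scheme.{u}}
    (f : X ⟶ Spec (CommRingCat.of k)) (hf : SmoothOfRelativeDimension (M + (c + 1)) f) (𝓘 : X.IdealSheafData)
    (hh : SmoothOfRelativeDimension M (𝓘.subschemeι ≫ f)) (b : X' ⟶ X) (hb : BlowUp.IsBlowUp b 𝓘)
    [hb' : PreservesFiniteLimits (EtCoh.pull b)] (q : ℕ) :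
    ∃ Ψ : (EtCoh.H X (EtCoh.const X (ZMod m)) q × (∀ j : {j : Fin c // 2 * (j.1 + 1) ≤ q},
        EtCoh.H 𝓘.subscheme (EtCoh.const 𝓘.subscheme (ZMod m)) (q - 2 * (j.1.1 + 1)))) ≃+
        EtCoh.H X' ((EtCoh.pull b).obj (EtCoh.const X (ZMod m))) q,
      ∀ e, Ψ (e, 0) = EtCore.Hpull b (EtCoh.const X (ZMod m)) q e := by
  have : NeZero m := ⟨hm0.ne'⟩
  have hsm : Smooth f := SmoothOfRelativeDimension.smooth (M + (c + 1)) f
  have hX : IsLocallyNoetherian X := LocallyOfFiniteType.isLocallyNoetherian f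
  have hbp : IsProper b := Flat2C.BlowProper.isProper_of_isBlowUp hb (isFiniteTypeIdeal 𝓘)
  have hf' := Geo.smooth_blowUp f 𝓘 M c hf hh hb
  have hh' := Geo.smooth_exceptional f 𝓘 M c hf hh hb
  have hiso := BlowUpFormal.isIso_morphismRestrict_compl_support hb 𝓘.support.compl disjoint_compl_left
  let U : X.Opens := 𝓘.support.compl
  let j' := Scheme.Opens.ι (b ⁻¹ᵁ U)
  have hsq : IsPullback j' (b ∣_ U) b U.ι := (isPullback_morphismRestrict b U).flip
  let i := 𝓘.subschemeι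
  let i' := (𝓘.comap b).subschemeι
  let π : (𝓘.comap b).subscheme ⟶ 𝓘.subscheme := (𝓘.comapIso b).hom ≫ pullback.snd b 𝓘.subschemeι
  have hE : IsPullback i' π b i := IsPullback.of_iso_pullback
    ⟨by rw [Category.assoc, ← pullback.condition, Scheme.IdealSheafData.comapIso_hom_fst_assoc]⟩ (𝓘.comapIso b)
    (Scheme.IdealSheafData.comapIso_hom_fst _ _) rfl
  have hd := isCompl 𝓘
  have hU' : Set.range j' = (Set.range i')ᶜ := range_compl 𝓘 b
  have hjb : IsOpenImmersion (j' ≫ b) := by rw [hsq.w]; infer_instance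
  have hUb : Set.range (j' ≫ b) = (Set.range i)ᶜ := by
    rw [hsq.w]
    have h1 : Set.range (b ∣_ U ≫ U.ι) = Set.range U.ι := by
      rw [Scheme.Hom.comp_base, TopCat.coe_comp, Set.range_comp, (b ∣_ U).surjective.range_eq, Set.image_univ]
    rw [h1]
    exact hd.compl_eq.symm
  have hmX := isUnit_natCast k f m hm
  have hmX' := isUnit_natCast k (b ≫ f) m hm
  have hlc : ∀ Y : Scheme.{u}, EtCoh.IsFiniteLocallyConstant (EtCoh.const Y (ZMod m)) := fun Y =>
    Etrest.ConstBasic.isFiniteLocallyConstant_const Y (ZMod m)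
  have hk : ∀ Y : Scheme.{u}, EtCoh.KilledBy m (EtCoh.const Y (ZMod m)) := fun Y =>
    Etrest.ConstBasic.killedBy_const Y (ZMod m) m (fun a => by simp)
  have hT : EtCoh.IsTorsion (EtCoh.const X (ZMod m)) := Etrest.ConstBasic.isTorsion_of_killedBy hm0 (hk X)
  let cb := EtCore.pullConst b (ZMod m)
  -- purity
  have p1 := Groth.Agent.S3099.result f (i ≫ f) i M (c + 1) (by omega) rfl (j' ≫ b) hUb m hmX
    (EtCoh.const X (ZMod m)) (hlc X) (hk X)
  have p2 := Groth.Agent.S3099.result (b ≫ f) (i' ≫ b ≫ f) i' (M + c) 1 one_pos rfl j' hU' m hmX'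
    ((EtCoh.pull b).obj (EtCoh.const X (ZMod m)))
    (Etrest.ConstBasic.isFiniteLocallyConstant_of_iso cb.symm (hlc X'))
    (killedBy_of_iso cb.symm (hk X'))
  -- the residue isomorphism
  have hh'' : SmoothOfRelativeDimension (M + (c + 1) - 1) (i' ≫ b ≫ f) := hh'
  have p3 := Groth.Agent.S4259.result m (isUnit_natCast k (𝟙 _) m hm) (M + (c + 1)) (by omega) (b ≫ f)
    (i' ≫ b ≫ f) i' rfl j' hU'
  obtain ⟨Ψ, hΨ⟩ := exists_psi_blow b i U.ι hd j' (b ∣_ U) hsq i' π hE (j' ≫ b) rfl c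
    (EtCoh.const X (ZMod m)) hT p1.1 p2.1
    (nonempty_residue k m hm0 hm b i i' π hE j' (b ≫ f) p3) (fun q hq => p2.2 q (by omega) (by omega))
    (fun q hq1 hq2 => p1.2 q hq1 (by omega))
    ⟨2 * c, fun q hq => Groth.Agent.S0126.result b c (H496.BlowFibre.topologicalKrullDim_fiber_le f 𝓘 M c hf hh hb)
      _ (Sga4B.TorsionStalks.isTorsion_pull b hT) q hq⟩ q
  have hH : ∀ r : ℕ, Nonempty (EtCoh.H 𝓘.subscheme (EtCoh.const 𝓘.subscheme (ZMod m)) r ≃+
      EtCoh.H X ((EtCoh.push i).obj ((EtCoh.pull i).obj (EtCoh.const X (ZMod m)))) r) := by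
    intro r
    obtain ⟨e1⟩ := Sga5.ClosedPush.nonempty_H_push i ((EtCoh.pull i).obj (EtCoh.const X (ZMod m))) r
    exact ⟨(Sga4B.HTools.HCongr (EtCore.pullConst i (ZMod m)).symm r).trans e1.symm⟩
  exact Final.exists_transport _ _ (fun j : {j : Fin c // 2 * (j.1 + 1) ≤ q} => hH (q - 2 * (j.1.1 + 1))) Ψ _ hΨ

end Groth.Agent.Lefpen.H709.Main
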