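import Groth.Agent.Lefpen.H709.Cone

/-!
# Splitting of a derived direct image from purity (abstract form)

`L ⊣ G`, `L' ⊣ G'` with `L`, `L'` exact; `M`, `D` objects, `π : M ⟶ D`. Under the hypotheses of `split`
(`M ≅ G L M`, `D ≅ G L D`, `R^q G (L π)` an isomorphism for `q ≥ 1`, `L M ≅ G' L' L M`, `R^1 G' (L' L M) ≅ L D`,
`R^q G' (L' L M) = 0` for `q ≥ 2`, `R^q (G' ⋙ G) (L' L M) = 0` for `q ≠ 0, 2c+1`, `R^q G (L M) = 0` for large `q`)
`RG (L M) = M ⊕ ⊕_{j=1}^{c} D[-2j]`, the first inclusion being the unit.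
-/

set_option autoImplicit false
universe w₁ w₂ w₃ v₁ v₂ v₃ u₁ u₂ u₃
open CategoryTheory CategoryTheory.Limits Pretriangulated

noncomputable section
namespace Groth.Agent.Lefpen.H709.Split

open DerivedCategory DSum DCore Cone HZero
open Groth.Agent.Etrest Groth.Agent.Etrest.RDer1 Groth.Agent.Etrest.RDer2 Groth.Agent.Etrest.RDer3
  Groth.Agent.Etrest.RDer4

section Unit

variable {A : Type u₁} [Category.{v₁} A] [Abelian A] [HasDerivedCategory.{w₁} A]
  {B : Type u₂} [Category.{v₂} B] [Abelian B] [HasDerivedCategory.{w₂} B] [HasKInj B]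
  {L : A ⥤ B} {G : B ⥤ A} [L.Additive] [G.Additive] [PreservesFiniteLimits L] [PreservesFiniteColimits L]
  (adj : L ⊣ G)

/-- The unit `N[0] ⟶ RG (L N[0])`. -/
def ua (N : A) : (singleFunctor A 0).obj N ⟶ (TR G).obj ((singleFunctor B 0).obj (L.obj N)) :=
  (dAdj adj).unit.app ((singleFunctor A 0).obj N) ≫
    (TR G).map ((L.mapDerivedCategorySingleFunctor 0).hom.app N)

theorem isIso_H0_ua [EnoughInjectives B] [PreservesFiniteLimits G] (N : A) (h : IsIso (adj.unit.app N)) :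
    IsIso ((homologyFunctor A 0).map (ua adj N)) := by
  have h1 := isIso_H0_dAdj_unit adj N h
  unfold ua
  rw [Functor.map_comp]
  infer_instance

/-- Homology of the total right derived functor of a single object. -/
theorem isZero_H_TR [EnoughInjectives B] (M : B) (p : ℤ) (h : ∀ q : ℕ, (q : ℤ) = p → IsZero ((G.rightDerived q).obj M)) :
    IsZero ((homologyFunctor A p).obj ((TR G).obj ((singleFunctor B 0).obj M))) := by
  by_cases hp : p < 0
  · exact isZero_HTRsingle G M p hp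
  · obtain ⟨n, rfl⟩ := Int.eq_ofNat_of_zero_le (not_lt.1 hp)
    exact (h n rfl).of_iso ((HTRsingle G n).app M)

theorem isIso_H_TR [EnoughInjectives B] {M N : B} (f : M ⟶ N) (q : ℕ) (h : IsIso ((G.rightDerived q).map f)) :
    IsIso ((homologyFunctor A (q : ℤ)).map ((TR G).map ((singleFunctor B 0).map f))) :=
  (NatIso.isIso_map_iff (HTRsingle G q) f).2 h

end Unit

variable {A : Type u₁} [Category.{v₁} A] [Abelian A] [HasDerivedCategory.{w₁} A]
  {B : Type u₂} [Category.{v₂} B] [Abelian B] [HasDerivedCategory.{w₂} B] [HasKInj B] [EnoughInjectives B]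
  {U : Type u₃} [Category.{v₃} U] [Abelian U] [HasDerivedCategory.{w₃} U] [HasKInj U] [EnoughInjectives U]
  {L : A ⥤ B} {G : B ⥤ A} [L.Additive] [G.Additive] [PreservesFiniteLimits L] [PreservesFiniteColimits L]
  [PreservesFiniteLimits G] (adj : L ⊣ G)
  {L' : B ⥤ U} {G' : U ⥤ B} [L'.Additive] [G'.Additive] [PreservesFiniteLimits L'] [PreservesFiniteColimits L']
  [PreservesFiniteLimits G'] (adj' : L' ⊣ G')

include adj' in
theorem split (c : ℕ) (M D : A) (π : M ⟶ D)
    (h1 : IsIso (adj.unit.app M)) (h2 : IsIso (adj.unit.app D))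
    (h3 : ∀ q : ℕ, 1 ≤ q → IsIso ((G.rightDerived q).map (L.map π)))
    (h4 : IsIso (adj'.unit.app (L.obj M)))
    (h5 : Nonempty ((G'.rightDerived 1).obj (L'.obj (L.obj M)) ≅ L.obj D))
    (h6 : ∀ q : ℕ, 2 ≤ q → IsZero ((G'.rightDerived q).obj (L'.obj (L.obj M))))
    (h7 : ∀ q : ℕ, q ≠ 0 → q ≠ 2 * c + 1 → IsZero (((G' ⋙ G).rightDerived q).obj (L'.obj (L.obj M))))
    (h8 : ∃ n : ℕ, ∀ q : ℕ, n < q → IsZero ((G.rightDerived q).obj (L.obj M))) :
    ∃ φ : ∀ j : Fin c, (singleFunctor A (2 * ((j.1 + 1 : ℕ) : ℤ))).obj D ⟶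
        (TR G).obj ((singleFunctor B 0).obj (L.obj M)),
      ∀ N : DerivedCategory A, Function.Bijective (fun f : (N ⟶ (singleFunctor A 0).obj M) ×
        (∀ j : Fin c, N ⟶ (singleFunctor A (2 * ((j.1 + 1 : ℕ) : ℤ))).obj D) =>
        f.1 ≫ ua adj M + ∑ j, f.2 j ≫ φ j) := by
  have hG' : ∀ I : CochainComplex U ℤ, I.IsKInjective →
      CochainComplex.IsKInjective ((G'.mapHomologicalComplex (.up ℤ)).obj I) := fun I hI =>
    Dcoh.DerComp.isKInjective_map adj' (Dcoh.DerComp.acyclic_map_exact _) I hI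
  obtain ⟨cl, δ, hT⟩ := exists_triangle (L.obj M) (L.obj D)
    ((TR G').obj ((singleFunctor U 0).obj (L'.obj (L.obj M)))) (ua adj' (L.obj M))
    (isIso_H0_ua adj' _ h4)
    (by
      obtain ⟨e⟩ := h5
      exact ⟨(HTRsingle G' 1).app _ ≪≫ e⟩)
    (fun p hp => isZero_H_TR _ p (fun q hq => by omega))
    (fun p hp => isZero_H_TR _ p (fun q hq => h6 q (by omega)))
  obtain ⟨δ', hT'⟩ := exists_map_triangle (TR G) cl _ δ hT
  obtain ⟨n, hn⟩ := h8
  have e := (TRcomp G' G hG').app ((singleFunctor U 0).obj (L'.obj (L.obj M)))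
  refine ⟨fun j => phi (ua adj D) (((TR G).commShiftIso (-2 : ℤ)).inv.app _ ≫ (TR G).map cl)
    ((TR G).map ((singleFunctor B 0).map (L.map π))) j.1, ?_⟩
  refine bijective (ua adj D) (ua adj M) _ ((TR G).map ((singleFunctor B 0).map (L.map π))) _ δ' hT' c
    (isIso_H0_ua adj D h2) (isIso_H0_ua adj M h1) ?_ ?_ ?_ ?_ ⟨n, ?_⟩
  · intro p hp
    obtain ⟨q, rfl⟩ := Int.eq_ofNat_of_zero_le (show 0 ≤ p by omega)
    exact isIso_H_TR _ q (h3 q (by omega))
  · intro p hp1 hp2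
    have h9 : IsZero ((homologyFunctor A p).obj ((TR (G' ⋙ G)).obj
        ((singleFunctor U 0).obj (L'.obj (L.obj M))))) :=
      isZero_H_TR _ p (fun q hq => h7 q (by omega) (by omega))
    exact h9.of_iso ((homologyFunctor A p).mapIso e.symm)
  · exact fun p hp => isZero_H_TR _ p (fun q hq => by omega)
  · exact fun p hp => isZero_H_TR _ p (fun q hq => by omega)
  · exact fun p hp => isZero_H_TR _ p (fun q hq => hn q (by omega))

end Groth.Agent.Lefpen.H709.Split
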